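import Groth.Agent.S3363
import Groth.Agent.S0239
import Groth.Agent.S0244
import Groth.Agent.CurvesC.RegNormal
import Groth.Agent.CalgA.AdicLe
import Groth.Agent.Pi1C.PurityQuot
import Groth.Agent.Pi1C.IdemCrit
import Groth.Agent.Sga2lef.H100.GrPunct
import Mathlib.AlgebraicGeometry.Morphisms.Flat
import Mathlib.RingTheory.Henselian

/-!
# Full faithfulness of restriction of finite etale covers to a punctured spectrum

* `ff_of_comp`, `ff_comp`, `ff_of_iso`: formal lemmas on fully faithful functors.
* `ff_punctured_quotient`: `A` a normal complete Noetherian local domain of dimension `≥ k + 2`,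
  `R = A / (f_1, …, f_k)`: restriction from `Spec R` to its punctured spectrum is fully faithful and
  the punctured spectrum is connected.
* `ff_punctured_of_cover`: descent of full faithfulness along `A → A'` faithfully flat with
  `m_A A' = m_{A'}` and the same residue field.
-/

set_option autoImplicit false
universe u v

open CategoryTheory CategoryTheory.Limits AlgebraicGeometry TopologicalSpace

namespace K156.PunctFF

open Groth.Agent

/-- Full and faithful. -/
abbrev FF {C : Type*} [Category* C] {D : Type*} [Category* D] (F : C ⥤ D) : Prop :=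
  F.Full ∧ F.Faithful

section Formal

variable {C : Type*} [Category* C] {D : Type*} [Category* D] {E : Type*} [Category* E]

theorem ff_of_iso {F G : C ⥤ D} (e : F ≅ G) (h : FF F) : FF G := by
  obtain ⟨h1, h2⟩ := h
  exact ⟨Functor.Full.of_iso e, Functor.Faithful.of_iso e⟩

theorem ff_comp {F : C ⥤ D} {G : D ⥤ E} (hF : FF F) (hG : FF G) : FF (F ⋙ G) := by
  obtain ⟨h1, h2⟩ := hF
  obtain ⟨h3, h4⟩ := hG
  exact ⟨inferInstance, inferInstance⟩

theorem ff_of_isEquivalence (F : C ⥤ D) [F.IsEquivalence] : FF F := ⟨inferInstance, inferInstance⟩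

/-- If `F` is an equivalence and `F ⋙ G` is fully faithful then `G` is. -/
theorem ff_of_comp (F : C ⥤ D) (G : D ⥤ E) [F.IsEquivalence] (h : FF (F ⋙ G)) : FF G := by
  have h1 : FF (F.asEquivalence.inverse ⋙ (F ⋙ G)) := ff_comp (ff_of_isEquivalence _) h
  exact ff_of_iso ((Functor.associator _ _ _).symm ≪≫
    Functor.isoWhiskerRight F.asEquivalence.counitIso G ≪≫ G.leftUnitor) h1

end Formal

section Restrict

open Groth.Agent.Pi1C.PurityQuot

variable {X Y Z : Scheme.{u}}

theorem ff_restrict_comp (f : X ⟶ Y) (g : Y ⟶ Z) (hf : FF (FEt.restrict f)) (hg : FF (FEt.restrict g)) :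
    FF (FEt.restrict (f ≫ g)) :=
  ff_of_iso (restrictComp f g).symm (ff_comp hg hf)

/-- If `restrict g` is an equivalence and `restrict (f ≫ g)` is fully faithful then so is `restrict f`. -/
theorem ff_restrict_of_comp (f : X ⟶ Y) (g : Y ⟶ Z) [(FEt.restrict g).IsEquivalence]
    (h : FF (FEt.restrict (f ≫ g))) : FF (FEt.restrict f) :=
  ff_of_comp (FEt.restrict g) (FEt.restrict f) (ff_of_iso (restrictComp f g) h)

theorem ff_restrict_congr {f g : X ⟶ Y} (h : f = g) (hf : FF (FEt.restrict f)) : FF (FEt.restrict g) := by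
  subst h; exact hf

end Restrict

section Complete

open IsLocalRing Groth.Agent.Sga2lef.H100.GrPunct Groth.Agent.Sga2.PuncRed Groth.Agent.Sga2.PuncSections

/-- `A` a normal complete Noetherian local domain of dimension `≥ k + 2`, `R = A / (f_1, …, f_k)`:
restriction from `Spec R` to its punctured spectrum is fully faithful and the punctured spectrum is
connected. -/
theorem ff_punctured_quotient (A : Type u) [CommRing A] [IsDomain A] [IsNoetherianRing A]
    [IsLocalRing A] [IsIntegrallyClosed A] [IsAdicComplete (IsLocalRing.maximalIdeal A) A] (k : ℕ)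
    (hdim : ((k + 2 : ℕ) : WithBot ℕ∞) ≤ ringKrullDim A) (f : Fin k → A)
    (hf : ∀ i, f i ∈ IsLocalRing.maximalIdeal A) [IsLocalRing (A ⧸ Ideal.span (Set.range f))] :
    FF (FEt.restrict (FEt.puncturedSpec (A ⧸ Ideal.span (Set.range f))).ι) ∧
      ConnectedSpace ↥(FEt.puncturedSpec (A ⧸ Ideal.span (Set.range f)) : Scheme.{u}) := by
  obtain ⟨hc, hff⟩ := S3363.result A k hdim f hf
  obtain ⟨e, he⟩ := exists_subschemeIso A (Ideal.span (Set.range f)) _
    (ker_inc A (Ideal.span (Set.range f)))
  constructor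
  · have h1 : FF (FEt.restrict (inc A (Ideal.span (Set.range f)))) := by
      refine ff_restrict_congr he ?_
      exact ff_restrict_comp _ _ (ff_of_isEquivalence _) hff
    have h2 : FF (FEt.restrict (FEt.puncturedSpec A).ι) := by
      refine S0244.result (S3363.isNormalScheme_spec A) (FEt.puncturedSpec A) ?_
      refine ⟨(⊥ : PrimeSpectrum A), fun h => ?_⟩
      have h3 : (⊥ : Ideal A) = maximalIdeal A := congrArg PrimeSpectrum.asIdeal h
      have h4 : IsField A := IsLocalRing.isField_iff_maximalIdeal_eq.mpr h3.symm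
      rw [ringKrullDim_eq_zero_of_isField h4] at hdim
      have h5 : ((k + 2 : ℕ) : WithBot ℕ∞) ≤ ((0 : ℕ) : WithBot ℕ∞) := by exact_mod_cast hdim
      have h6 : k + 2 ≤ 0 := by exact_mod_cast h5
      omega
    have h3 : FF (FEt.restrict (inc A (Ideal.span (Set.range f)) ≫ (FEt.puncturedSpec A).ι)) :=
      ff_restrict_comp _ _ h1 h2
    have hle : Ideal.span (Set.range f) ≤ maximalIdeal A := by
      rw [Ideal.span_le]
      rintro _ ⟨i, rfl⟩
      exact hf i
    have : IsAdicComplete (Ideal.span (Set.range f)) A :=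
      CalgA.AdicLe.isAdicComplete_of_le hle (IsNoetherian.noetherian _)
    have : (FEt.restrict (Spec.map (CommRingCat.ofHom
        (Ideal.Quotient.mk (Ideal.span (Set.range f)))))).IsEquivalence :=
      S0239.result A (Ideal.span (Set.range f))
    exact ff_restrict_of_comp _ _ (ff_restrict_congr (inc_ι A _) h3)
  · exact e.inv.homeomorph.surjective.connectedSpace e.inv.continuous

end Complete

section Cover

open IsLocalRing

/-- The preimage of the punctured spectrum. -/
theorem closedPoint_iff {A A' : Type u} [CommRing A] [CommRing A'] [IsLocalRing A] [IsLocalRing A']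
    (φ : A →+* A') [IsLocalHom φ] (hm : maximalIdeal A' ≤ (maximalIdeal A).map φ)
    (x : PrimeSpectrum A') : PrimeSpectrum.comap φ x = closedPoint A ↔ x = closedPoint A' := by
  constructor
  · intro h
    have h1 : x.asIdeal.comap φ = IsLocalRing.maximalIdeal A := congrArg PrimeSpectrum.asIdeal h
    have h2 : (IsLocalRing.maximalIdeal A).map φ ≤ x.asIdeal := by
      rw [Ideal.map_le_iff_le_comap, h1]
    exact PrimeSpectrum.ext (le_antisymm (IsLocalRing.le_maximalIdeal x.isPrime.ne_top)
      (hm.trans h2))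
  · intro h
    rw [h]
    exact IsLocalRing.comap_closedPoint φ

/-- The points of `T ×_{Spec A} Spec A'` over the closed point are determined by their image in `T`. -/
theorem eq_of_fst_eq {A A' : Type u} [CommRing A] [CommRing A'] [IsLocalRing A] [IsLocalRing A']
    (φ : A →+* A') [IsLocalHom φ] (hm : maximalIdeal A' ≤ (maximalIdeal A).map φ)
    (hres : ∀ x : A', ∃ a : A, x - φ a ∈ maximalIdeal A')
    {T : Scheme.{u}} (t : T ⟶ Spec (CommRingCat.of A))
    (x y : ↥(pullback t (Spec.map (CommRingCat.ofHom φ))))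
    (hx : t (pullback.fst t (Spec.map (CommRingCat.ofHom φ)) x) = closedPoint A)
    (hxy : pullback.fst t (Spec.map (CommRingCat.ofHom φ)) x =
      pullback.fst t (Spec.map (CommRingCat.ofHom φ)) y) : x = y := by
  let p := Spec.map (CommRingCat.ofHom φ)
  let i' : Spec (CommRingCat.of (A' ⧸ maximalIdeal A')) ⟶ Spec (CommRingCat.of A') :=
    Spec.map (CommRingCat.ofHom (Ideal.Quotient.mk (maximalIdeal A')))
  have hcl : IsClosedImmersion (i' ≫ p) := by
    have : i' ≫ p = Spec.map (CommRingCat.ofHom ((Ideal.Quotient.mk (maximalIdeal A')).comp φ)) := by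
      rw [← Spec.map_comp]
      rfl
    rw [this]
    apply IsClosedImmersion.spec_of_surjective
    intro z
    obtain ⟨z, rfl⟩ := Ideal.Quotient.mk_surjective z
    obtain ⟨a, ha⟩ := hres z
    refine ⟨a, ?_⟩
    symm
    exact (Ideal.Quotient.mk_eq_mk_iff_sub_mem _ _).mpr ha
  have hi' : closedPoint A' ∈ Set.range i' := by
    have h1 : Set.range i' = PrimeSpectrum.zeroLocus ((maximalIdeal A' : Ideal A') : Set A') := by
      have := _root_.range_comap_of_surjective _
        (Ideal.Quotient.mk (maximalIdeal A')) Ideal.Quotient.mk_surjective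
      rw [Ideal.mk_ker] at this
      exact this
    rw [h1]
    exact fun a ha => ha
  have hpt : ∀ z : ↥(pullback t p), t (pullback.fst t p z) = closedPoint A →
      pullback.snd t p z = closedPoint A' := by
    intro z hz
    rw [← Scheme.Hom.comp_apply, pullback.condition, Scheme.Hom.comp_apply] at hz
    exact (closedPoint_iff φ hm _).mp hz
  have hlift : ∀ z : ↥(pullback t p), t (pullback.fst t p z) = closedPoint A →
      ∃ w, pullback.fst (pullback.snd t p) i' w = z := by
    intro z hz
    have : z ∈ Set.range (pullback.fst (pullback.snd t p) i') := by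
      rw [Scheme.Pullback.range_fst, Set.mem_preimage, hpt z hz]
      exact hi'
    exact this
  obtain ⟨x', hx'⟩ := hlift x hx
  obtain ⟨y', hy'⟩ := hlift y (by rw [← hxy]; exact hx)
  have hsq : IsPullback (pullback.fst (pullback.snd t p) i' ≫ pullback.fst t p)
      (pullback.snd (pullback.snd t p) i') t (i' ≫ p) :=
    (IsPullback.of_hasPullback (pullback.snd t p) i').paste_horiz (IsPullback.of_hasPullback t p)
  have hcl' : IsClosedImmersion (pullback.fst (pullback.snd t p) i' ≫ pullback.fst t p) :=
    MorphismProperty.of_isPullback (P := @IsClosedImmersion) hsq.flip hcl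
  have hxy' : x' = y' := by
    apply (pullback.fst (pullback.snd t p) i' ≫ pullback.fst t p).isClosedEmbedding.injective
    rw [Scheme.Hom.comp_apply, Scheme.Hom.comp_apply, hx', hy']
    exact hxy
  rw [← hx', ← hy', hxy']


open Groth.Agent.Pi1C.IdemCrit

/-- Clopen subsets of the restriction extend if restriction is full. -/
theorem exists_isClopen_of_full {X S : Scheme.{u}} (f : X ⟶ S) [(FEt.restrict f).Full]
    {T : Scheme.{u}} (t : T ⟶ S) (ht : FEt.prop t) (V : Set ↥(pullback t f)) (hV : IsClopen V) :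
    ∃ U : Set T, IsClopen U ∧ pullback.fst t f ⁻¹' U = V := by
  obtain ⟨e, he, rfl⟩ := exists_idem_of_isClopen hV
  have h0 : ∃ e' : Γ(T, ⊤), e' * e' = e' ∧ (pullback.fst t f).appTop e' = e :=
    exists_idem_of_full f (MorphismProperty.Over.mk ⊤ t ht) e he
  obtain ⟨e', he', hee'⟩ := h0
  refine ⟨T.basicOpen e', isClopen_basicOpen he', ?_⟩
  subst hee'
  rw [← Scheme.preimage_basicOpen_top]
  rfl

/-- A clopen subset with empty restriction is empty if restriction is faithful. -/
theorem eq_empty_of_faithful {X S : Scheme.{u}} (f : X ⟶ S) [(FEt.restrict f).Faithful]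
    {T : Scheme.{u}} (t : T ⟶ S) (ht : FEt.prop t)
    (U : Set T) (hU : IsClopen U) (h : pullback.fst t f ⁻¹' U = ∅) : U = ∅ := by
  obtain ⟨e, he, rfl⟩ := exists_idem_of_isClopen hU
  have h3 : (pullback.fst t f).appTop e = 0 := by
    apply Groth.Agent.Pi1C.IdemCrit.eq_zero_of_basicOpen_eq_bot
    · rw [← map_mul, he]
    · rw [← Scheme.preimage_basicOpen_top]
      exact TopologicalSpace.Opens.ext h
  have h4 : e = 0 := idem_eq_of_faithful f (MorphismProperty.Over.mk ⊤ t ht) e (0 : Γ(T, ⊤)) he
    (mul_zero (0 : Γ(T, ⊤)))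
    (h3.trans (map_zero (pullback.fst t f).appTop.hom).symm)
  rw [h4, Scheme.basicOpen_zero]
  rfl

section Descent

variable {A A' : Type u} [CommRing A] [CommRing A'] [IsLocalRing A]
    [IsLocalRing A'] (φ : A →+* A') [IsLocalHom φ]
    (hm : maximalIdeal A' ≤ (maximalIdeal A).map φ)
    (hres : ∀ x : A', ∃ a : A, x - φ a ∈ maximalIdeal A') (hφ : φ.FaithfullyFlat)

/-- The morphism of spectra. -/
noncomputable abbrev sp : Spec (CommRingCat.of A') ⟶ Spec (CommRingCat.of A) :=
  Spec.map (CommRingCat.ofHom φ)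

omit [IsLocalRing A] [IsLocalRing A'] [IsLocalHom φ] in
include hφ in
theorem flat_surj : Flat (sp φ) ∧ Surjective (sp φ) :=
  (flat_and_surjective_SpecMap_iff (CommRingCat.ofHom φ)).mpr hφ

include hm in
theorem sp_mem (x : Spec (CommRingCat.of A')) :
    sp φ x ∈ FEt.puncturedSpec A ↔ x ∈ FEt.puncturedSpec A' :=
  not_congr (closedPoint_iff φ hm x)

variable {T : Scheme.{u}} (t : T ⟶ Spec (CommRingCat.of A))

include hm in
theorem exists_q : ∃ (q : pullback (pullback.snd t (sp φ)) (FEt.puncturedSpec A').ι ⟶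
          pullback t (FEt.puncturedSpec A).ι),
        q ≫ pullback.fst t (FEt.puncturedSpec A).ι =
          pullback.fst (pullback.snd t (sp φ)) (FEt.puncturedSpec A').ι ≫
            pullback.fst t (sp φ) := by
  refine ⟨IsOpenImmersion.lift _ (pullback.fst (pullback.snd t (sp φ)) (FEt.puncturedSpec A').ι ≫
          pullback.fst t (sp φ)) ?_, IsOpenImmersion.lift_fac _ _ _⟩
  rw [Scheme.Pullback.range_fst, Scheme.Opens.range_ι]
  rintro _ ⟨z, rfl⟩
  change t ((pullback.fst (pullback.snd t (sp φ)) (FEt.puncturedSpec A').ι ≫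
          pullback.fst t (sp φ)) z) ∈ FEt.puncturedSpec A
  rw [← Scheme.Hom.comp_apply, Category.assoc, pullback.condition, ← Category.assoc,
    pullback.condition, Scheme.Hom.comp_apply, sp_mem φ hm, Scheme.Hom.comp_apply]
  exact (pullback.snd (pullback.snd t (sp φ)) (FEt.puncturedSpec A').ι z).2

theorem exists_lift (x : T) (hx : t x ∈ FEt.puncturedSpec A) :
    ∃ w, pullback.fst t (FEt.puncturedSpec A).ι w = x := by
  have : x ∈ Set.range (pullback.fst t (FEt.puncturedSpec A).ι) := by
    rw [Scheme.Pullback.range_fst, Scheme.Opens.range_ι]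
    exact hx
  exact this

include hm in
theorem exists_lift' (x : ↥(pullback t (sp φ))) (hx : t (pullback.fst t (sp φ) x) ∈ FEt.puncturedSpec A) :
    ∃ w, pullback.fst (pullback.snd t (sp φ)) (FEt.puncturedSpec A').ι w = x := by
  apply exists_lift
  rw [← sp_mem φ hm, ← Scheme.Hom.comp_apply, ← pullback.condition, Scheme.Hom.comp_apply]
  exact hx

include hm hφ in
theorem faithful_aux [(FEt.restrict (FEt.puncturedSpec A').ι).Faithful] (ht : FEt.prop t) (U : Set T)
    (hU : IsClopen U) (hU0 : pullback.fst t (FEt.puncturedSpec A).ι ⁻¹' U = ∅) : U = ∅ := by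
  obtain ⟨hflat, hsurj⟩ := flat_surj φ hφ
  obtain ⟨q, hq⟩ := exists_q φ hm t
  have h1 : (pullback.fst t (sp φ)) ⁻¹' U = ∅ := by
    apply eq_empty_of_faithful (FEt.puncturedSpec A').ι (pullback.snd t (sp φ))
      (MorphismProperty.pullback_snd _ _ ht)
    · exact hU.preimage (pullback.fst t (sp φ)).continuous
    · rw [Set.eq_empty_iff_forall_notMem]
      intro z hz
      have h2 : q z ∈ (pullback.fst t (FEt.puncturedSpec A).ι) ⁻¹' U := by
        rw [Set.mem_preimage, ← Scheme.Hom.comp_apply, hq]
        exact hz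
      rw [hU0] at h2
      exact h2
  rw [Set.eq_empty_iff_forall_notMem] at h1 ⊢
  intro x hx
  obtain ⟨y, rfl⟩ := (inferInstance : Surjective (pullback.fst t (sp φ))).1 x
  exact h1 y hx

include hm hres hφ in
theorem full_aux [(FEt.restrict (FEt.puncturedSpec A').ι).Full] (ht : FEt.prop t)
    (V : Set ↥(pullback t (FEt.puncturedSpec A).ι)) (hV : IsClopen V) :
    ∃ U : Set T, IsClopen U ∧ pullback.fst t (FEt.puncturedSpec A).ι ⁻¹' U = V := by
  obtain ⟨hflat, hsurj⟩ := flat_surj φ hφ
  obtain ⟨q, hq⟩ := exists_q φ hm t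
  have hjq : ∀ z, pullback.fst t (FEt.puncturedSpec A).ι (q z) =
      pullback.fst t (sp φ)
        (pullback.fst (pullback.snd t (sp φ)) (FEt.puncturedSpec A').ι z) := by
    intro z
    rw [← Scheme.Hom.comp_apply, hq]
    rfl
  have hjinj : Function.Injective (pullback.fst t (FEt.puncturedSpec A).ι) :=
    (pullback.fst t (FEt.puncturedSpec A).ι).isOpenEmbedding.injective
  obtain ⟨W', hW', hW'V⟩ := exists_isClopen_of_full (FEt.puncturedSpec A').ι (pullback.snd t (sp φ))
    (MorphismProperty.pullback_snd _ _ ht) (q ⁻¹' V) (hV.preimage q.continuous)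
  have hmem : ∀ z, pullback.fst (pullback.snd t (sp φ)) (FEt.puncturedSpec A').ι z ∈ W' ↔
      q z ∈ V := fun z => by
    change z ∈ pullback.fst (pullback.snd t (sp φ)) (FEt.puncturedSpec A').ι ⁻¹' W' ↔ _
    rw [hW'V]
    rfl
  have hsat : (pullback.fst t (sp φ)) ⁻¹' ((pullback.fst t (sp φ)) '' W') = W' := by
    apply Set.Subset.antisymm _ (Set.subset_preimage_image _ _)
    rintro x ⟨y, hy, hyx⟩
    by_cases hx : t (pullback.fst t (sp φ) x) = closedPoint A
    · have : x = y := eq_of_fst_eq φ hm hres t x y hx hyx.symm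
      rw [this]; exact hy
    · obtain ⟨x₁, hx₁⟩ := exists_lift' φ hm t x hx
      obtain ⟨y₁, hy₁⟩ := exists_lift' φ hm t y (by rw [hyx]; exact hx)
      have h1 : q x₁ = q y₁ := by
        apply hjinj
        rw [hjq, hjq, hx₁, hy₁]
        exact hyx.symm
      rw [← hx₁, hmem, h1, ← hmem, hy₁]
      exact hy
  have hquot : Topology.IsQuotientMap (pullback.fst t (sp φ)) :=
    Flat.isQuotientMap_of_surjective _
  refine ⟨(pullback.fst t (sp φ)) '' W', ⟨?_, ?_⟩, ?_⟩
  · rw [← hquot.isClosed_preimage, hsat]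
    exact hW'.1
  · rw [← hquot.isOpen_preimage, hsat]
    exact hW'.2
  · ext v
    have hv : t (pullback.fst t (FEt.puncturedSpec A).ι v) ∈ FEt.puncturedSpec A := by
      rw [← Scheme.Hom.comp_apply, pullback.condition, Scheme.Hom.comp_apply]
      exact (pullback.snd t (FEt.puncturedSpec A).ι v).2
    constructor
    · rintro ⟨y, hy, hyv⟩
      obtain ⟨y₁, hy₁⟩ := exists_lift' φ hm t y (by rw [hyv]; exact hv)
      have h1 : q y₁ = v := by
        apply hjinj
        rw [hjq, hy₁]
        exact hyv
      rw [← h1, ← hmem, hy₁]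
      exact hy
    · intro hvV
      obtain ⟨y, hy⟩ := (inferInstance : Surjective (pullback.fst t (sp φ))).1
        (pullback.fst t (FEt.puncturedSpec A).ι v)
      obtain ⟨y₁, hy₁⟩ := exists_lift' φ hm t y (by rw [hy]; exact hv)
      have h1 : q y₁ = v := by
        apply hjinj
        rw [hjq, hy₁]
        exact hy
      refine ⟨y, ?_, hy⟩
      rw [← hy₁, hmem, h1]
      exact hvV

include hm hres hφ in
/-- Descent of full faithfulness of restriction to the punctured spectrum. -/
theorem ff_punctured_of_cover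
    (h : FF (FEt.restrict (FEt.puncturedSpec A').ι)) : FF (FEt.restrict (FEt.puncturedSpec A).ι) := by
  obtain ⟨hfull, hfaith⟩ := h
  apply Groth.Agent.Pi1A.ClopenCrit.restrict_fullyFaithful_of_isClopen
  · intro T U hU hU0
    exact faithful_aux φ hm hφ T.hom T.prop U hU hU0
  · intro T V hV
    exact full_aux φ hm hres hφ T.hom T.prop V hV

include hm hφ in
/-- Descent of connectedness of the punctured spectrum. -/
theorem connectedSpace_of_cover
    (h : ConnectedSpace ↥(FEt.puncturedSpec A' : Scheme.{u})) :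
    ConnectedSpace ↥(FEt.puncturedSpec A : Scheme.{u}) := by
  obtain ⟨hflat, hsurj⟩ := flat_surj φ hφ
  have hc : _root_.IsConnected (FEt.puncturedSpec A' : Set ↥(Spec (CommRingCat.of A'))) :=
    isConnected_iff_connectedSpace.mpr h
  have h1 := hc.image (sp φ) (sp φ).continuous.continuousOn
  have h2 : sp φ '' (FEt.puncturedSpec A' : Set ↥(Spec (CommRingCat.of A'))) =
      (FEt.puncturedSpec A : Set ↥(Spec (CommRingCat.of A))) := by
    ext x
    constructor
    · rintro ⟨y, hy, rfl⟩
      exact (sp_mem φ hm y).mpr hy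
    · intro hx
      obtain ⟨y, rfl⟩ := hsurj.1 x
      exact ⟨y, (sp_mem φ hm y).mp hx, rfl⟩
  rw [h2] at h1
  exact isConnected_iff_connectedSpace.mp h1

end Descent

end Cover

end K156.PunctFF
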