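import Groth.Agent.Pi1.K156.AmpleZero
import Groth.Agent.Pi1.K156.PunctFF
import Groth.Agent.CycB.LocQuot
import Groth.Agent.Ega4A.Depth
import Groth.Agent.FormalA.ConnDim
import Groth.Agent.Sga7.H764.DimClosure
import Groth.Agent.Pi1C.LefReduce
import Groth.Agent.Pi1C.LefFinal
import Groth.Agent.Pi1C.DimFun

/-!
# The Lefschetz equivalence for the zero scheme of a regular section of an ample module
-/

set_option autoImplicit false
universe u v

open CategoryTheory CategoryTheory.Limits AlgebraicGeometry TopologicalSpace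

namespace K156.AmpleLef

open Groth.Agent

/-- `depth O_y ≤ depth O_x + dim cl{x}` for a specialization `y` of `x`. -/
theorem depth_le_of_specializes {X : Scheme.{u}} [IsLocallyNoetherian X] {x y : X} (h : x ⤳ y) :
    ((LocCoh.depth (X.presheaf.stalk y) (X.presheaf.stalk y) : ℕ∞) : WithBot ℕ∞) ≤
      ((LocCoh.depth (X.presheaf.stalk x) (X.presheaf.stalk x) : ℕ∞) : WithBot ℕ∞) +
        topologicalKrullDim (closure ({x} : Set X)) := by
  let p : Ideal (X.presheaf.stalk y) := RingHom.ker (Cyc.specMap y x h)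
  have hp : p.IsPrime := CycB.LocQuot.ker_isPrime h
  have h1 := CycB.LocQuot.isLocalization_stalkSpecializes h
  let _ : Algebra (X.presheaf.stalk y) (X.presheaf.stalk x) := (X.presheaf.stalkSpecializes h).hom.toAlgebra
  have h1' : IsLocalization.AtPrime (X.presheaf.stalk x) p := h1
  let e : Localization.AtPrime p ≃+* X.presheaf.stalk x :=
    (IsLocalization.algEquiv p.primeCompl (Localization.AtPrime p) (X.presheaf.stalk x)).toRingEquiv
  have h2 : LocCoh.depth (X.presheaf.stalk x) (X.presheaf.stalk x) =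
      LocCoh.depth (Localization.AtPrime p) (Localization.AtPrime p) :=
    (CalgA.DepthSmall.depth_ringEquiv e).symm
  have h3 := Ega4A.Depth.depth_le_depth_localizedModule_add (M := X.presheaf.stalk y) p
  have h4 : LocCoh.depth (Localization.AtPrime p)
      (LocalizedModule p.primeCompl (X.presheaf.stalk y)) =
      LocCoh.depth (Localization.AtPrime p) (Localization.AtPrime p) :=
    Pi1C.DimFun.depth_localizedModule_self p
  have h5 : ringKrullDim (X.presheaf.stalk y ⧸ p) ≤ topologicalKrullDim (closure ({x} : Set X)) := by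
    rw [← FormalA.ConnDim.topologicalKrullDim_zeroLocus]
    let P : PrimeSpectrum (X.presheaf.stalk y) := CycB.LocQuot.primeOf h
    have h6 : PrimeSpectrum.zeroLocus (p : Set (X.presheaf.stalk y)) = closure {P} := by
      rw [PrimeSpectrum.closure_singleton, CycB.LocQuot.primeOf_asIdeal]
    rw [h6]
    have h7 : X.fromSpecStalk y P = x := by
      have h9 : Spec.map (X.presheaf.stalkSpecializes h)
          (IsLocalRing.closedPoint (X.presheaf.stalk x)) = P := rfl
      rw [← h9, ← Scheme.Hom.comp_apply, Scheme.SpecMap_stalkSpecializes_fromSpecStalk]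
      exact X.fromSpecStalk_closedPoint
    have h8 := Sga7.H764.DimClosure.closure_le_of_isInducing (X.fromSpecStalk y)
      (X.fromSpecStalk y).isEmbedding.isInducing P
    rw [h7] at h8
    exact h8
  rw [h2, ← h4]
  exact h3.trans (add_le_add le_rfl h5)

theorem exists_isClosed {X : Scheme.{u}} [CompactSpace X] (x : X) :
    ∃ y : X, x ⤳ y ∧ IsClosed ({y} : Set X) := by
  obtain ⟨y, hy, hyc⟩ := IsClosed.exists_closed_singleton (S := closure ({x} : Set X))
    isClosed_closure ⟨x, subset_closure rfl⟩
  exact ⟨y, specializes_iff_mem_closure.2 hy, hyc⟩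

/-- Depth at the closed points bounds depth plus dimension everywhere. -/
theorem lt_depth_add_dim {X : Scheme.{u}} [IsLocallyNoetherian X] [CompactSpace X]
    (hd2 : ∀ x : X, IsClosed ({x} : Set X) →
      (2 : ℕ∞) ≤ LocCoh.depth (X.presheaf.stalk x) (X.presheaf.stalk x)) (x : X) :
    (1 : WithBot ℕ∞) < (LocCoh.depth (X.presheaf.stalk x) (X.presheaf.stalk x) : WithBot ℕ∞) +
        topologicalKrullDim (closure ({x} : Set X)) := by
  obtain ⟨y, hy, hyc⟩ := exists_isClosed x
  refine lt_of_lt_of_le ?_ (depth_le_of_specializes hy)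
  refine lt_of_lt_of_le ?_ (WithBot.coe_le_coe.2 (hd2 y hyc))
  exact_mod_cast (by norm_num : (1 : ℕ∞) < 2)

theorem ff_of_comp_right {C : Type*} [Category* C] {D : Type*} [Category* D] {E : Type*} [Category* E]
    (F : C ⥤ D) (G : D ⥤ E) [G.IsEquivalence] (h : K156.PunctFF.FF (F ⋙ G)) : K156.PunctFF.FF F := by
  obtain ⟨h1, h2⟩ := h
  exact ⟨Functor.Full.of_comp_faithful F G, Functor.Faithful.of_comp F G⟩

open Groth.Agent.Pi1C.PurityQuot K156.PunctFF in
/-- Full faithfulness of restriction to the zero scheme. -/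
theorem fullyFaithful (k : Type u) [Field k] (X : Scheme.{u})
    (f : X ⟶ Spec (CommRingCat.of k)) [IsProper f] (L : X.Modules) (hL : CohB1.IsAmple L)
    (s : Coh.structureModule X ⟶ L)
    (hd2 : ∀ x : X, IsClosed ({x} : Set X) → (2 : ℕ∞) ≤ LocCoh.depth (X.presheaf.stalk x) (X.presheaf.stalk x)) :
    FF (FEt.restrict (PicF2.zeroScheme L s).subschemeι) := by
  have hX : IsLocallyNoetherian X := LocallyOfFiniteType.isLocallyNoetherian f
  have hXc : CompactSpace X := QuasiCompact.compactSpace_of_compactSpace f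
  have h1 := S1150.result k X f L hL s (fun x _ => lt_depth_add_dim hd2 x) ⊤ (fun _ _ => trivial)
  have h2 : IsIso (⊤ : X.Opens).ι := by
    rw [← Scheme.topIso_hom]
    infer_instance
  have h3 : FF (FEt.restrict (pullback.snd (PicF2.zeroScheme L s).subschemeι (⊤ : X.Opens).ι ≫
      (⊤ : X.Opens).ι)) :=
    ff_restrict_comp _ _ h1 (ff_of_isEquivalence _)
  rw [← pullback.condition] at h3
  have h4 := ff_of_iso (restrictComp (pullback.fst (PicF2.zeroScheme L s).subschemeι (⊤ : X.Opens).ι)
    (PicF2.zeroScheme L s).subschemeι) h3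
  exact ff_of_comp_right _ _ h4

/-- Every neighbourhood of the support of an ample section has a complement consisting of finitely
many closed points. -/
theorem isClosed_of_notMem (k : Type u) [Field k] (X : Scheme.{u})
    (f : X ⟶ Spec (CommRingCat.of k)) [IsProper f] (L : X.Modules) (hL : CohB1.IsAmple L)
    (s : Coh.structureModule X ⟶ L) (N : X.Opens)
    (hN : ((PicF2.zeroScheme L s).support : Set X) ⊆ N) (x : X) (hx : x ∉ N) :
    IsClosed ({x} : Set X) := by
  refine Pi1C.LefReduce.isClosed_singleton_of_affine f (CohB1.genLocus L s)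
    (Pi1C.LefFinal.isAffineOpen_genLocus f hL s) (N : Set X)ᶜ N.isOpen.isClosed_compl
    (fun y hy => ?_) x hx
  have h1 := Pi1C.LefFinal.support_eq hL.1 s
  have h2 : y ∉ ((PicF2.zeroScheme L s).support : Set X) := fun h => hy (hN h)
  rw [h1] at h2
  simpa using h2

open Groth.Agent.Pi1C.PurityQuot K156.PunctFF in
/-- The Lefschetz equivalence, given the extension of covers to neighbourhoods. -/
theorem isEquivalence_of_ext (k : Type u) [Field k] (X : Scheme.{u})
    (f : X ⟶ Spec (CommRingCat.of k)) [IsProper f] (L : X.Modules) (hL : CohB1.IsAmple L)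
    (s : Coh.structureModule X ⟶ L)
    (hd2 : ∀ x : X, IsClosed ({x} : Set X) → (2 : ℕ∞) ≤ LocCoh.depth (X.presheaf.stalk x) (X.presheaf.stalk x))
    (hp : ∀ x : X, IsClosed ({x} : Set X) → x ∉ (PicF2.zeroScheme L s).support →
      FEt.PurityHolds (X.presheaf.stalk x))
    (H : ∀ R : FEt.Cat (PicF2.zeroScheme L s).subscheme,
      ∃ (U : X.Opens) (R' : FEt.Cat (U : Scheme.{u})),
        ((PicF2.zeroScheme L s).support : Set X) ⊆ (U : Set X) ∧
        ∀ i : (PicF2.zeroScheme L s).subscheme ⟶ (U : Scheme.{u}),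
          i ≫ U.ι = (PicF2.zeroScheme L s).subschemeι → Nonempty ((FEt.restrict i).obj R' ≅ R)) :
    (FEt.restrict (PicF2.zeroScheme L s).subschemeι).IsEquivalence := by
  have hX : IsLocallyNoetherian X := LocallyOfFiniteType.isLocallyNoetherian f
  have hXc : CompactSpace X := QuasiCompact.compactSpace_of_compactSpace f
  have hXn : IsNoetherian X := {}
  obtain ⟨h1, h2⟩ := fullyFaithful k X f L hL s hd2
  have h3 : (FEt.restrict (PicF2.zeroScheme L s).subschemeι).EssSurj := by
    refine ⟨fun R => ?_⟩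
    obtain ⟨U, R', hU, hR⟩ := H R
    have hP : (FEt.restrict U.ι).EssSurj := S0250.result U (fun x hx =>
      hp x (isClosed_of_notMem k X f L hL s U hU x hx) (fun h => hx (hU h)))
    let i : (PicF2.zeroScheme L s).subscheme ⟶ (U : Scheme.{u}) :=
      IsOpenImmersion.lift U.ι (PicF2.zeroScheme L s).subschemeι (by
        rw [Scheme.IdealSheafData.range_subschemeι, Scheme.Opens.range_ι]
        exact hU)
    have hi : i ≫ U.ι = (PicF2.zeroScheme L s).subschemeι := IsOpenImmersion.lift_fac _ _ _
    obtain ⟨e⟩ := hR i hi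
    refine ⟨(FEt.restrict U.ι).objPreimage R', ⟨?_⟩⟩
    exact ((restrictCongr hi).symm ≪≫ restrictComp i U.ι).app _ ≪≫
      (FEt.restrict i).mapIso ((FEt.restrict U.ι).objObjPreimageIso R') ≪≫ e
  exact { }

end K156.AmpleLef
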