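import Groth.Agent.Fga.ZeroClass
import Groth.Agent.Pi1C.ZeroScheme
import Groth.Agent.Divis.CartierStalk
import Groth.Agent.Sga2lef.H76.DepthHyp
import Groth.Agent.Ega4dB.FiberStalk
import Groth.Agent.CalgA.DepthSmall
import Groth.Agent.Smoothlim.ModKer
import Groth.Agent.Fdesc.LocGen
import Groth.Agent.S3361
import Groth.Agent.S1150
import Groth.Agent.S0250

/-!
# Zero schemes of regular sections of ample invertible modules over a field
-/

set_option autoImplicit false
universe u v

open CategoryTheory CategoryTheory.Limits AlgebraicGeometry TopologicalSpace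

namespace K156.AmpleZero

open Groth.Agent Groth.Agent.Fdesc.LocGen

variable {X : Scheme.{u}} {L : X.Modules} (s : Coh.structureModule X ⟶ L)

/-- The local equations of the zero scheme of a regular section are nonzerodivisors. -/
theorem mem_nonZeroDivisors [Mono s] (U : X.Opens) {e : Γ(L, U)} (he : IsGen e) {c : Γ(X, U)}
    (hc : sec s U = c • e) : c ∈ nonZeroDivisors Γ(X, U) := by
  have hinj := Smoothlim.ModKer.app_injective_of_mono s U
  rw [mem_nonZeroDivisors_iff_right]
  intro a ha
  have h1 : s.app U (a • one U) = 0 := by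
    have h2 : s.app U (a • one U) = a • sec s U := Scheme.Modules.Hom.app_smul s a (one U)
    rw [h2, hc, smul_smul, ha, zero_smul]
  have h3 : a • one U = (0 : Γ(Coh.structureModule X, U)) := hinj (by rw [h1, map_zero])
  have h4 : a • one U = a := by
    exact mul_one a
  exact h4.symm.trans h3

theorem isEffCartierIdeal (hL : PicF.IsInvertible L) [Mono s] :
    BlowUp.IsEffCartierIdeal (PicF2.zeroScheme L s) := by
  intro x
  obtain ⟨U, hU, hxU, -, e, he⟩ := Pi1C.ZeroScheme.exists_affine_isGen hL ⊤ x trivial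
  obtain ⟨c, hc⟩ := he.exists_eq (sec s U)
  exact ⟨⟨U, hU⟩, hxU, c, mem_nonZeroDivisors s U he hc,
    Pi1C.ZeroScheme.ideal_eq_span s hL ⟨U, hU⟩ he hc⟩

theorem isInverseOf (hL : PicF.IsInvertible L) [Mono s] :
    ClSub.IsInverseOf L (ClSub.idealMod (PicF2.zeroScheme L s)) := by
  refine Fga.ZeroClass.nonempty_iso hL (sec s ⊤) ?_ (isEffCartierIdeal s hL)
  intro U e he a ha
  rw [res_sec] at ha
  exact Pi1C.ZeroScheme.ideal_eq_span s hL U he ha

open Groth.Agent.Divis.CartierBasic in
/-- The depth of the zero scheme of a regular section. -/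
theorem depth_subscheme [IsLocallyNoetherian X] (hL : PicF.IsInvertible L) [Mono s]
    (z : (PicF2.zeroScheme L s).subscheme) :
    LocCoh.depth ((PicF2.zeroScheme L s).subscheme.presheaf.stalk z)
      ((PicF2.zeroScheme L s).subscheme.presheaf.stalk z) + 1 =
    LocCoh.depth (X.presheaf.stalk ((PicF2.zeroScheme L s).subschemeι z))
      (X.presheaf.stalk ((PicF2.zeroScheme L s).subschemeι z)) := by
  obtain ⟨g, hg, hI⟩ := exists_stalkIdeal_eq_span (isEffCartierIdeal s hL)
    ((PicF2.zeroScheme L s).subschemeι z)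
  have e := Divis.CartierStalk.stalkQuotEquiv (PicF2.zeroScheme L s) z
  rw [hI] at e
  have hnt : Nontrivial (X.presheaf.stalk ((PicF2.zeroScheme L s).subschemeι z) ⧸ Ideal.span {g}) :=
    e.toEquiv.nontrivial
  have hne := Ideal.Quotient.nontrivial_iff.1 hnt
  have hmem : g ∈ IsLocalRing.maximalIdeal (X.presheaf.stalk ((PicF2.zeroScheme L s).subschemeι z)) :=
    IsLocalRing.le_maximalIdeal hne (Ideal.mem_span_singleton_self g)
  have hloc : IsLocalRing
      (X.presheaf.stalk ((PicF2.zeroScheme L s).subschemeι z) ⧸ Ideal.span {g}) :=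
    IsLocalRing.of_surjective' _ Ideal.Quotient.mk_surjective
  rw [← CalgA.DepthSmall.depth_ringEquiv e]
  refine Sga2lef.H76.DepthHyp.depth_quot_self_add_one hmem ?_
  rw [isSMulRegular_iff_right_eq_zero_of_smul]
  intro y hy
  rw [smul_eq_mul, mul_comm] at hy
  exact (mem_nonZeroDivisors_iff_right.1 hg) y hy

section Field

variable {k : Type u} [Field k] {Y : Scheme.{u}} (h : Y ⟶ Spec (CommRingCat.of k))

theorem maximalIdeal_stalk_eq_bot (p : Spec (CommRingCat.of k)) :
    IsLocalRing.maximalIdeal ((Spec (CommRingCat.of k)).presheaf.stalk p) = ⊥ := by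
  have h1 : p = genericPoint (Spec (CommRingCat.of k)) :=
    Subsingleton.elim (α := PrimeSpectrum k) _ _
  have h2 : IsField ((Spec (CommRingCat.of k)).presheaf.stalk p) := by
    rw [h1]; exact Field.toIsField (Spec (CommRingCat.of k)).functionField
  exact (IsLocalRing.isField_iff_maximalIdeal_eq).1 h2

open Groth.Agent.Ega4dB.FiberStalk in
theorem depth_fiberStalk (y : Y) :
    LocCoh.depth (CInt.fiberStalk h y) (CInt.fiberStalk h y) =
      LocCoh.depth (Y.presheaf.stalk y) (Y.presheaf.stalk y) := by
  have h1 : fibIdeal h y = ⊥ := by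
    rw [fibIdeal, maximalIdeal_stalk_eq_bot, Ideal.map_bot]
  have h2 : Function.Injective (toFiberStalk h y).hom := by
    rw [RingHom.injective_iff_ker_eq_bot, eq_bot_iff, ← h1]
    exact ker_toFiberStalk_le h y
  exact (CalgA.DepthSmall.depth_ringEquiv
    (RingEquiv.ofBijective (toFiberStalk h y).hom ⟨h2, toFiberStalk_surjective h y⟩)).symm

theorem isClosed_of_isClosed_asFiber (y : Y) (hy : IsClosed ({h.asFiber y} : Set (h.fiber (h y)))) :
    IsClosed ({y} : Set Y) := by
  have h1 : Topology.IsClosedEmbedding (h.fiberι (h y)) := by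
    refine ⟨(h.fiberι (h y)).isEmbedding, ?_⟩
    rw [Scheme.Hom.range_fiberι]
    have h2 : h ⁻¹' {h y} = Set.univ := by
      ext z
      simp only [Set.mem_preimage, Set.mem_singleton_iff, Set.mem_univ, iff_true]
      exact Subsingleton.elim (α := PrimeSpectrum k) _ _
    rw [h2]
    exact isClosed_univ
  have h3 := h1.isClosedMap _ hy
  rw [Set.image_singleton, Scheme.Hom.fiberι_asFiber] at h3
  exact h3

end Field

/-- The effective Lefschetz condition for an ample regular section over a field. -/
theorem leffCond (k : Type u) [Field k] (X : Scheme.{u})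
    (f : X ⟶ Spec (CommRingCat.of k)) [IsProper f] (L : X.Modules) (hL : CohB1.IsAmple L)
    (s : Coh.structureModule X ⟶ L) [Mono s]
    (hd2 : ∀ x : X, IsClosed ({x} : Set X) → (2 : ℕ∞) ≤ LocCoh.depth (X.presheaf.stalk x) (X.presheaf.stalk x))
    (hd3 : ∀ x : X, IsClosed ({x} : Set X) → x ∈ (PicF2.zeroScheme L s).support →
      (3 : ℕ∞) ≤ LocCoh.depth (X.presheaf.stalk x) (X.presheaf.stalk x)) :
    LefX.LeffCond X (PicF2.zeroScheme L s) := by
  have hX : IsLocallyNoetherian X := LocallyOfFiniteType.isLocallyNoetherian f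
  let _ : X.Over (Spec (CommRingCat.of k)) := ⟨f⟩
  have hinv : PicF.IsInvertible L := hL.1
  have hprop : IsProper (X ↘ Spec (CommRingCat.of k)) := (inferInstance : IsProper f)
  have hflat : Flat (X ↘ Spec (CommRingCat.of k)) := (inferInstance : Flat f)
  have hflat' : Flat ((PicF2.zeroScheme L s).subschemeι ≫ X ↘ Spec (CommRingCat.of k)) :=
    (inferInstance : Flat ((PicF2.zeroScheme L s).subschemeι ≫ f))
  refine S3361.result k X (PicF2.zeroScheme L s) L (isInverseOf s hinv) hL ?_ ?_
  · intro y hy
    rw [depth_fiberStalk]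
    have h1 := isClosed_of_isClosed_asFiber _ y hy
    have h2 : IsClosed ({(PicF2.zeroScheme L s).subschemeι y} : Set X) := by
      have := ((PicF2.zeroScheme L s).subschemeι).isClosedEmbedding.isClosedMap _ h1
      rwa [Set.image_singleton] at this
    have h3 := hd3 _ h2 (by
      have : (PicF2.zeroScheme L s).subschemeι y ∈ Set.range (PicF2.zeroScheme L s).subschemeι := ⟨y, rfl⟩
      rwa [Scheme.IdealSheafData.range_subschemeι] at this)
    rw [← depth_subscheme s hinv y] at h3
    have h4 : (2 : ℕ∞) + 1 ≤ LocCoh.depth ((PicF2.zeroScheme L s).subscheme.presheaf.stalk y)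
      ((PicF2.zeroScheme L s).subscheme.presheaf.stalk y) + 1 := by
      refine le_trans (le_of_eq ?_) h3
      norm_num
    exact (ENat.add_le_add_iff_right (by norm_num)).1 h4
  · intro x hx
    rw [depth_fiberStalk]
    exact hd2 x (isClosed_of_isClosed_asFiber _ x hx)

end K156.AmpleZero
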