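import Groth.Agent.Pi1A.FEtAffine
import Mathlib.AlgebraicGeometry.Normalization
import Mathlib.AlgebraicGeometry.Morphisms.LocalFlatDescent

/-!
# Extension of finite étale covers which extend étale locally

For `j : X₀ ⟶ X` with `j.fromNormalization` an isomorphism, a finite étale cover of `X₀` which extends étale locally
on `X` extends to `X`: the extension is the normalization of `X` in the cover.
-/

set_option autoImplicit false
universe u

open CategoryTheory CategoryTheory.Limits AlgebraicGeometry

namespace K156.ExtNorm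

section Norm

variable {A B C : Scheme.{u}}

/-- a criterion -/
theorem isIso_of_section (f : A ⟶ B) [QuasiCompact f] [QuasiSeparated f] (s : B ⟶ f.normalization)
    (h1 : f ≫ s = f.toNormalization) (h2 : s ≫ f.fromNormalization = 𝟙 B) :
    IsIso f.fromNormalization := by
  refine ⟨s, ?_, h2⟩
  refine Scheme.Hom.normalization.hom_ext f _ _ f.fromNormalization ?_ ?_ ?_
  · rw [← Category.assoc, Scheme.Hom.toNormalization_fromNormalization, h1, Category.comp_id]
  · rw [Category.assoc, h2, Category.comp_id]
  · rw [Category.id_comp]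

/-- precomposition with an isomorphism -/
theorem isIso_comp (e : A ⟶ B) [IsIso e] (f : B ⟶ C) [QuasiCompact f] [QuasiSeparated f]
    [QuasiCompact (e ≫ f)] [QuasiSeparated (e ≫ f)] [IsIso f.fromNormalization] :
    IsIso (e ≫ f).fromNormalization := by
  have H : f = (inv e ≫ (e ≫ f).toNormalization) ≫ (e ≫ f).fromNormalization := by
    rw [Category.assoc, Scheme.Hom.toNormalization_fromNormalization, IsIso.inv_hom_id_assoc]
  have h0 : f ≫ inv f.fromNormalization = f.toNormalization := by
    rw [IsIso.comp_inv_eq, Scheme.Hom.toNormalization_fromNormalization]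
  refine isIso_of_section (e ≫ f) (inv f.fromNormalization ≫ f.normalizationDesc _ _ H) ?_ ?_
  · rw [Category.assoc, reassoc_of% h0, Scheme.Hom.toNormalization_normalizationDesc,
      IsIso.hom_inv_id_assoc]
  · rw [Category.assoc, Scheme.Hom.normalizationDesc_comp, IsIso.inv_hom_id]

theorem isIso_congr {f g : A ⟶ B} (h : f = g) [QuasiCompact f] [QuasiSeparated f] [QuasiCompact g]
    [QuasiSeparated g] (hf : IsIso f.fromNormalization) : IsIso g.fromNormalization := by
  subst h
  exact hf

/-- smooth base change -/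
theorem isIso_of_isPullback {D : Scheme.{u}} {f : A ⟶ B} {v : C ⟶ B} {p : D ⟶ A} {q : D ⟶ C}
    (h : IsPullback p q f v) [QuasiCompact f] [QuasiSeparated f] [QuasiCompact q] [QuasiSeparated q]
    [Smooth v] [IsIso f.fromNormalization] : IsIso q.fromNormalization := by
  have h1 : IsIso (pullback.snd f v).fromNormalization := by
    rw [← Scheme.Hom.normalizationPullback_snd]
    have : IsIso (pullback.snd f.fromNormalization v) :=
      (IsPullback.of_hasPullback f.fromNormalization v).isIso_snd_of_isIso
    infer_instance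
  have h2 : h.isoPullback.hom ≫ pullback.snd f v = q := h.isoPullback_hom_snd
  have q1 : QuasiCompact (h.isoPullback.hom ≫ pullback.snd f v) := by rw [h2]; infer_instance
  have q2 : QuasiSeparated (h.isoPullback.hom ≫ pullback.snd f v) := by rw [h2]; infer_instance
  exact isIso_congr h2 (isIso_comp h.isoPullback.hom (pullback.snd f v))

/-- normalization of a composite with an integral morphism -/
theorem isIso_desc {f : A ⟶ C} (a : A ⟶ B) (b : B ⟶ C) (hf : f = a ≫ b) [QuasiCompact a]
    [QuasiSeparated a] [IsIntegralHom b] [QuasiCompact f] [QuasiSeparated f]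
    [IsIso a.fromNormalization] : IsIso (f.normalizationDesc a b hf) := by
  have H : a = f.toNormalization ≫ f.normalizationDesc a b hf := by
    rw [Scheme.Hom.toNormalization_normalizationDesc]
  have h0 : a ≫ inv a.fromNormalization = a.toNormalization := by
    rw [IsIso.comp_inv_eq, Scheme.Hom.toNormalization_fromNormalization]
  have h2 : (inv a.fromNormalization ≫ a.normalizationDesc _ _ H) ≫
      f.normalizationDesc a b hf = 𝟙 B := by
    rw [Category.assoc, Scheme.Hom.normalizationDesc_comp, IsIso.inv_hom_id]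
  have h3 : f.fromNormalization = f.normalizationDesc a b hf ≫ b :=
    (Scheme.Hom.normalizationDesc_comp ..).symm
  refine ⟨inv a.fromNormalization ≫ a.normalizationDesc _ _ H, ?_, h2⟩
  refine Scheme.Hom.normalization.hom_ext f _ _ f.fromNormalization ?_ ?_ ?_
  · rw [Scheme.Hom.toNormalization_normalizationDesc_assoc, reassoc_of% h0,
      Scheme.Hom.toNormalization_normalizationDesc, Category.comp_id]
  · have h4 : (inv a.fromNormalization ≫ a.normalizationDesc _ _ H) ≫ f.fromNormalization = b := by
      conv_lhs => rw [h3]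
      rw [← Category.assoc, h2, Category.id_comp]
    rw [Category.assoc, h4]
    exact h3.symm
  · rw [Category.id_comp]

end Norm

section Joint

/-- descent of properties of morphisms along jointly surjective étale families -/
theorem joint (P : MorphismProperty Scheme.{u}) [P.DescendsAlong (@Surjective ⊓ @Flat ⊓ @QuasiCompact)]
    [IsZariskiLocalAtTarget P] {X Y : Scheme.{u}} (f : X ⟶ Y)
    (h : ∀ y : Y, ∃ (N : Scheme.{u}) (n : N ⟶ Y) (_ : Etale n) (_ : y ∈ Set.range n),
      P (pullback.snd f n)) : P f := by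
  refine IsZariskiLocalAtTarget.of_forall_exists_morphismRestrict (P := P) fun y => ?_
  obtain ⟨N, n, hn, hy, hP⟩ := h y
  let V : Y.Opens := ⟨Set.range n, n.isOpenMap.isOpen_range⟩
  let n' : N ⟶ (V : Scheme.{u}) := IsOpenImmersion.lift V.ι n (by rw [Scheme.Opens.range_ι]; rfl)
  have hn' : n' ≫ V.ι = n := IsOpenImmersion.lift_fac _ _ _
  have he : Etale (n' ≫ V.ι) := by rw [hn']; exact hn
  have he' : Etale n' := Etale.of_comp n' V.ι
  have hs : Surjective n' := by
    refine ⟨fun v => ?_⟩
    obtain ⟨z, hz⟩ : V.ι v ∈ Set.range n := v.2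
    refine ⟨z, ?_⟩
    apply V.ι.isOpenEmbedding.injective
    rw [← Scheme.Hom.comp_apply, hn', hz]
  refine ⟨V, hy, ?_⟩
  have h1 : IsPullback (pullback.fst f n) (pullback.snd f n) f n := IsPullback.of_hasPullback f n
  have h2 : IsPullback (f ⁻¹ᵁ V).ι (f ∣_ V) f V.ι := (isPullback_morphismRestrict f V).flip
  let l : pullback f n ⟶ (f ⁻¹ᵁ V : Scheme.{u}) := h2.lift (pullback.fst f n) (pullback.snd f n ≫ n')
    (by rw [Category.assoc, hn', h1.w])
  have hl1 : l ≫ (f ⁻¹ᵁ V).ι = pullback.fst f n := h2.lift_fst _ _ _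
  have hl2 : l ≫ f ∣_ V = pullback.snd f n ≫ n' := h2.lift_snd _ _ _
  have h3 : IsPullback l (pullback.snd f n) (f ∣_ V) n' := by
    refine IsPullback.of_right ?_ hl2 h2
    rw [hl1, hn']
    exact h1
  refine MorphismProperty.of_isPullback_of_descendsAlong (P := P)
    (Q := @Surjective ⊓ @Flat ⊓ @LocallyOfFinitePresentation) h3.flip ?_ hP
  exact ⟨⟨hs, inferInstance⟩, inferInstance⟩

end Joint

section Main

open Groth.Agent.Pi1A.FEtAffine

variable {X₀ X : Scheme.{u}} (j : X₀ ⟶ X) [QuasiCompact j] [QuasiSeparated j] [IsIso j.fromNormalization]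
  (Z : FEt.Cat X₀)

instance : IsFinite Z.hom := Z.prop.1

instance : Etale Z.hom := Z.prop.2

/-- the local structure of the normalization -/
theorem local_iso {N : Scheme.{u}} (n : N ⟶ X) [Etale n] (W : FEt.Cat N)
    (e : (FEt.restrict (pullback.snd j n)).obj W ≅ (FEt.restrict (pullback.fst j n)).obj Z) :
    ∃ (θ : pullback (Z.hom ≫ j).fromNormalization n ≅ W.left)
      (t : pullback (Z.hom ≫ j) n ⟶ pullback (Z.hom ≫ j).fromNormalization n),
      θ.hom ≫ W.hom = pullback.snd _ _ ∧
      t ≫ pullback.fst _ _ = pullback.fst _ _ ≫ (Z.hom ≫ j).toNormalization ∧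
      t ≫ pullback.snd _ _ = pullback.snd _ _ ∧
      IsPullback (pullback.fst (Z.hom ≫ j) n ≫ Z.hom) t j
        (pullback.snd (Z.hom ≫ j).fromNormalization n ≫ n) := by
  have i1 : IsFinite W.hom := W.prop.1
  have i2 : Etale W.hom := W.prop.2
  set g := Z.hom ≫ j with hg
  let R := (FEt.restrict (pullback.fst j n)).obj Z
  let R' := (FEt.restrict (pullback.snd j n)).obj W
  have H1 : IsPullback (proj (pullback.fst j n) Z) (R.hom ≫ pullback.snd j n) g n :=
    (isPullback (pullback.fst j n) Z).paste_vert (IsPullback.of_hasPullback j n)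
  have H2 : IsPullback (proj (pullback.snd j n) W) (R'.hom ≫ pullback.fst j n) (W.hom ≫ n) j :=
    (isPullback (pullback.snd j n) W).paste_vert (IsPullback.of_hasPullback j n).flip
  let φ : pullback g n ≅ R.left := H1.isoPullback.symm
  have hφ1 : φ.hom ≫ proj (pullback.fst j n) Z = pullback.fst g n := H1.isoPullback_inv_fst
  have hφ2 : φ.hom ≫ R.hom ≫ pullback.snd j n = pullback.snd g n := H1.isoPullback_inv_snd
  have hR : R.hom ≫ pullback.fst j n = proj (pullback.fst j n) Z ≫ Z.hom :=
    (isPullback (pullback.fst j n) Z).w.symm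
  have he : e.inv.left ≫ R'.hom = R.hom := hom_w e.inv
  have hei : IsIso e.inv.left := by
    change IsIso ((MorphismProperty.Over.forget _ _ _ ⋙ Over.forget _).map e.inv)
    infer_instance
  let a : pullback g n ⟶ W.left := φ.hom ≫ e.inv.left ≫ proj (pullback.snd j n) W
  have ha : a ≫ W.hom = pullback.snd g n := by
    rw [Category.assoc, Category.assoc, (isPullback (pullback.snd j n) W).w, reassoc_of% he, hφ2]
  have H3 : IsPullback a (pullback.fst g n ≫ Z.hom) (W.hom ≫ n) j := by
    refine IsPullback.of_iso H2 (φ ≪≫ asIso e.inv.left).symm (Iso.refl _) (Iso.refl _) (Iso.refl _)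
      ?_ ?_ ?_ ?_
    · simp [a]
    · rw [Iso.refl_hom, Category.comp_id, Iso.symm_hom, Iso.eq_inv_comp, ← hφ1, Category.assoc,
        ← hR, Iso.trans_hom, asIso_hom, Category.assoc, reassoc_of% he]
    · simp
    · simp
  have q1 : QuasiCompact a := MorphismProperty.of_isPullback H3.flip inferInstance
  have q2 : QuasiSeparated a := MorphismProperty.of_isPullback H3.flip inferInstance
  have h4 : IsIso a.fromNormalization := isIso_of_isPullback H3.flip
  have h5 := isIso_desc (f := pullback.snd g n) a W.hom ha.symm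
  let d := (pullback.snd g n).normalizationDesc a W.hom ha.symm
  let θ : pullback g.fromNormalization n ≅ W.left :=
    (asIso (g.normalizationPullback n)).symm ≪≫ asIso d
  have hθ : θ.hom ≫ W.hom = pullback.snd _ _ := by
    rw [Iso.trans_hom, Iso.symm_hom, asIso_inv, asIso_hom, Category.assoc, IsIso.inv_comp_eq,
      Scheme.Hom.normalizationPullback_snd]
    exact Scheme.Hom.normalizationDesc_comp ..
  let t := (pullback.snd g n).toNormalization ≫ g.normalizationPullback n
  have ht : t ≫ θ.hom = a := by
    rw [Category.assoc, Iso.trans_hom, Iso.symm_hom, asIso_inv, IsIso.hom_inv_id_assoc, asIso_hom]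
    exact Scheme.Hom.toNormalization_normalizationDesc ..
  refine ⟨θ, t, hθ, ?_, ?_, ?_⟩
  · rw [Category.assoc, Scheme.Hom.toNormalization_normalizationPullback_fst]
  · rw [Category.assoc, Scheme.Hom.normalizationPullback_snd,
      Scheme.Hom.toNormalization_fromNormalization]
  · refine IsPullback.of_iso H3.flip (Iso.refl _) (Iso.refl _) θ.symm (Iso.refl _) ?_ ?_ ?_ ?_
    · simp
      rfl
    · rw [Iso.refl_hom, Category.id_comp, ← ht, Iso.symm_hom, Category.assoc, Iso.hom_inv_id,
        Category.comp_id]
    · simp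
    · rw [Iso.refl_hom, Category.comp_id, ← hθ, Iso.symm_hom, Category.assoc, Iso.inv_hom_id_assoc]

/-- **Finite étale covers which extend étale locally extend.** -/
theorem exists_ext (h : ∀ x : X, ∃ (N : Scheme.{u}) (n : N ⟶ X) (_ : Etale n) (_ : x ∈ Set.range n)
      (W : FEt.Cat N), Nonempty ((FEt.restrict (pullback.snd j n)).obj W ≅
        (FEt.restrict (pullback.fst j n)).obj Z)) :
    ∃ Y : FEt.Cat X, Nonempty ((FEt.restrict j).obj Y ≅ Z) := by
  set g := Z.hom ≫ j with hg
  let ν := g.fromNormalization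
  have hloc : ∀ x : X, ∃ (N : Scheme.{u}) (n : N ⟶ X) (_ : Etale n) (_ : x ∈ Set.range n),
      (LocallyOfFiniteType (pullback.snd ν n) ∧ Etale (pullback.snd ν n)) ∧
      ∃ t : pullback g n ⟶ pullback ν n,
        t ≫ pullback.fst _ _ = pullback.fst _ _ ≫ g.toNormalization ∧
        t ≫ pullback.snd _ _ = pullback.snd _ _ ∧
        IsPullback (pullback.fst g n ≫ Z.hom) t j (pullback.snd ν n ≫ n) := by
    intro x
    obtain ⟨N, n, hn, hx, W, ⟨e⟩⟩ := h x
    obtain ⟨θ, t, h1, h2, h3, h4⟩ := local_iso j Z n W e
    have i1 : IsFinite W.hom := W.prop.1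
    have i2 : Etale W.hom := W.prop.2
    have h5 : Etale (pullback.snd ν n) := by
      rw [← h1]
      infer_instance
    exact ⟨N, n, hn, hx, ⟨inferInstance, h5⟩, t, h2, h3, h4⟩
  have e1 : Etale ν := joint @Etale ν fun x => by
    obtain ⟨N, n, hn, hx, hh, -⟩ := hloc x
    exact ⟨N, n, hn, hx, hh.2⟩
  have e2 : IsFinite ν := by
    rw [IsFinite.iff_isIntegralHom_and_locallyOfFiniteType]
    exact ⟨inferInstance, inferInstance⟩
  let Y : FEt.Cat X := MorphismProperty.Over.mk ⊤ ν ⟨e2, e1⟩
  let Y₀ := pullback ν j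
  have hY₀ : IsPullback (pullback.fst ν j) (pullback.snd ν j) ν j := IsPullback.of_hasPullback ν j
  let κ : Z.left ⟶ Y₀ := pullback.lift g.toNormalization Z.hom (by
    rw [Scheme.Hom.toNormalization_fromNormalization])
  have hκ1 : κ ≫ pullback.fst ν j = g.toNormalization := pullback.lift_fst _ _ _
  have hκ2 : κ ≫ pullback.snd ν j = Z.hom := pullback.lift_snd _ _ _
  have hκ : IsIso κ := by
    refine joint (MorphismProperty.isomorphisms Scheme.{u}) κ fun y => ?_
    obtain ⟨N, n, hn, ⟨z, hz⟩, -, t, ht1, ht2, ht⟩ := hloc ((pullback.fst ν j ≫ ν) y)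
    let q := pullback.fst ν j ≫ ν
    obtain ⟨w, hw, -⟩ := Scheme.Pullback.exists_preimage_pullback (f := q) (g := n) y z hz.symm
    refine ⟨pullback q n, pullback.fst q n, inferInstance, ⟨w, hw⟩, ?_⟩
    -- the comparison of two fibre products
    let r := pullback.fst q n
    have hq : IsPullback r (pullback.snd q n) q n := IsPullback.of_hasPullback q n
    have hν : IsPullback (pullback.fst ν n) (pullback.snd ν n) ν n := IsPullback.of_hasPullback ν n
    have hgn : IsPullback (pullback.fst g n) (pullback.snd g n) g n := IsPullback.of_hasPullback g n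
    let c : pullback q n ⟶ pullback ν n := pullback.lift (r ≫ pullback.fst ν j) (pullback.snd q n) (by
      rw [Category.assoc]
      exact hq.w)
    have hc1 : c ≫ pullback.fst ν n = r ≫ pullback.fst ν j := pullback.lift_fst _ _ _
    have hc2 : c ≫ pullback.snd ν n = pullback.snd q n := pullback.lift_snd _ _ _
    have hc : IsPullback r c (pullback.fst ν j) (pullback.fst ν n) := by
      refine IsPullback.of_bot ?_ hc1.symm hν
      rw [hc2]
      exact hq
    have hR : IsPullback (r ≫ pullback.snd ν j) c j (pullback.snd ν n ≫ n) := by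
      rw [← hν.w]
      exact hc.paste_horiz hY₀.flip
    let m : pullback g n ⟶ pullback q n := hq.lift (pullback.fst g n ≫ κ) (pullback.snd g n) (by
      rw [Category.assoc, reassoc_of% hκ1, Scheme.Hom.toNormalization_fromNormalization, hgn.w])
    have hm1 : m ≫ r = pullback.fst g n ≫ κ := hq.lift_fst _ _ _
    have hm2 : m ≫ pullback.snd q n = pullback.snd g n := hq.lift_snd _ _ _
    have hmc : m ≫ c = t := by
      apply hν.hom_ext
      · rw [Category.assoc, hc1, reassoc_of% hm1, hκ1, ht1]
      · rw [Category.assoc, hc2, hm2, ht2]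
    have hmi : IsIso m := by
      let l := ht.lift (r ≫ pullback.snd ν j) c hR.w
      have hl1 : l ≫ pullback.fst g n ≫ Z.hom = r ≫ pullback.snd ν j := ht.lift_fst _ _ _
      have hl2 : l ≫ t = c := ht.lift_snd _ _ _
      refine ⟨l, ?_, ?_⟩
      · apply ht.hom_ext
        · rw [Category.assoc, hl1, reassoc_of% hm1, hκ2, Category.id_comp]
        · rw [Category.assoc, hl2, hmc, Category.id_comp]
      · apply hR.hom_ext
        · rw [Category.assoc, reassoc_of% hm1, hκ2, hl1, Category.id_comp]
        · rw [Category.assoc, hmc, hl2, Category.id_comp]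
    have hk : IsPullback (pullback.fst g n) m κ r := by
      refine IsPullback.of_bot (h₁₁ := pullback.fst g n) (v₁₁ := m) (v₁₂ := κ) (h₂₁ := r) (v₂₁ := pullback.snd q n)
        (v₂₂ := q) (h₃₁ := n) ?_ hm1.symm hq
      rw [hm2]
      have : κ ≫ q = g := by
        rw [reassoc_of% hκ1, Scheme.Hom.toNormalization_fromNormalization]
      rw [this]
      exact hgn
    have h2 : IsIso (hk.isoPullback.inv ≫ m) := inferInstance
    rw [hk.isoPullback_inv_snd] at h2
    exact h2
  have hZ : (FEt.restrict j).obj Y ≅ Z := (isoMk (T := Z) (T' := (FEt.restrict j).obj Y)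
    (@asIso _ _ _ _ κ hκ) hκ2).symm
  exact ⟨Y, ⟨hZ⟩⟩

end Main

end K156.ExtNorm
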