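import Groth.Agent.Pi1.K156.ExtNorm
import Groth.Agent.EtAcyc.K548.Compo
import Groth.Agent.EtAcyc.K548.GenGood
import Groth.Agent.Flat2B.SmoothGeom
import Groth.Agent.Pi1.H538.PresGal
import Groth.Agent.Pi1.H538.PPrime

/-!
# Extension of Galois covers of the generic fibre with a rational point over a section
-/

set_option autoImplicit false
universe u

open CategoryTheory CategoryTheory.Limits AlgebraicGeometry Opposite IsLocalRing TensorProduct

namespace K156.GalExt

open K548.LocConn K548.Ac K548.Aic K548.AlgOv K548.SecSplit K548.SplitDesc K548.Good K168.AsphDef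
  K548.Nbhd K548.Compo
  Groth.Agent.Etrest.StrictLoc Groth.Agent.Sga1.UlaSL Groth.Agent.Pi1A.FEtAffine
  Groth.Agent.Pi1.H384.SplitBasic Groth.Agent.Pi1.H384.SplitCover

/-- the local statement over a strictly henselian base -/
def FibStmt : Prop :=
  ∀ {n : ℕ} {A D : Type u} [CommRing A] [IsLocalRing A] [CommRing D] (_ : HenselianLocalRing A)
    (_ : IsSepClosed (ResidueField A)) (_ : IsUnit (n : A)) (δ : A →+* D)
    (_ : ∀ (K : Type u) [Field K] (κ : D →+* K), AlgOver κ → AlgOver (κ.comp δ)) {X : Scheme.{u}}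
    (f : X ⟶ Spec (CommRingCat.of A)) (_ : IsGood f) (_ : Asph n f)
    (_ : _root_.IsPreconnected {x : X | f x = closedPoint A}) (σ : Spec (CommRingCat.of A) ⟶ X)
    (_ : σ ≫ f = 𝟙 _) {XD : Scheme.{u}} {a : XD ⟶ X} {fD : XD ⟶ Spec (CommRingCat.of D)}
    (_ : IsPullback a fD f (spm δ)) (G : Type) [Group G] [Finite G] (_ : Nat.card G ∣ n)
    (P : FEt.Cat XD) (ρ : G →* Aut P) (_ : SGA1t.IsPrincipal G P ρ)
    (sD : Spec (CommRingCat.of D) ⟶ XD) (_ : sD ≫ a = spm δ ≫ σ) (_ : sD ≫ fD = 𝟙 _)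
    (_ : Pi1.IsSplit ((FEt.restrict sD).obj P)) {B : Type u} [CommRing B] [IsLocalRing B]
    (τ : Spec (CommRingCat.of B) ⟶ X) (_ : IsStrictLoc τ) (_ : f (τ (closedPoint B)) = closedPoint A)
    {XB : Scheme.{u}} {b : XB ⟶ XD} {c : XB ⟶ Spec (CommRingCat.of B)} (_ : IsPullback b c a τ),
    Pi1.IsSplit ((FEt.restrict b).obj P)

/-- the extension theorem for arbitrary fibre squares -/
theorem exists_ext' {X₀ X : Scheme.{u}} (j : X₀ ⟶ X) [QuasiCompact j] [QuasiSeparated j]
    [IsIso j.fromNormalization] (Z : FEt.Cat X₀)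
    (h : ∀ x : X, ∃ (N N₀ : Scheme.{u}) (n : N ⟶ X) (_ : Etale n) (_ : x ∈ Set.range n)
      (q : N₀ ⟶ X₀) (p : N₀ ⟶ N) (_ : IsPullback q p j n) (W : FEt.Cat N),
        Nonempty ((FEt.restrict p).obj W ≅ (FEt.restrict q).obj Z)) :
    ∃ Y : FEt.Cat X, Nonempty ((FEt.restrict j).obj Y ≅ Z) := by
  refine K156.ExtNorm.exists_ext j Z fun x => ?_
  obtain ⟨N, N₀, n, hn, hx, q, p, hq, W, ⟨e⟩⟩ := h x
  refine ⟨N, n, hn, hx, W, ?_⟩
  obtain ⟨e1⟩ := K548.Nbhd.nonempty_iso_comp hq.isoPullback.inv p (pullback.snd j n)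
    hq.isoPullback_inv_snd W
  obtain ⟨e2⟩ := K548.Nbhd.nonempty_iso_comp hq.isoPullback.inv q (pullback.fst j n)
    hq.isoPullback_inv_fst Z
  exact ⟨e1.symm ≪≫ (FEt.restrict hq.isoPullback.inv).mapIso e ≪≫ e2⟩

/-- covers which are split over a strict localization are split over an étale neighbourhood -/
theorem exists_nbhd {X₀ X : Scheme.{u}} (j : X₀ ⟶ X) [QuasiCompact j] [QuasiSeparated j]
    (Z : FEt.Cat X₀) {B : Type u} [CommRing B] [IsLocalRing B] {τ : Spec (CommRingCat.of B) ⟶ X}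
    (hτ : IsStrictLoc τ) {XB : Scheme.{u}} {b : XB ⟶ X₀} {c : XB ⟶ Spec (CommRingCat.of B)}
    (hB : IsPullback b c j τ) (hs : Pi1.IsSplit ((FEt.restrict b).obj Z)) :
    ∃ (N N₀ : Scheme.{u}) (n : N ⟶ X) (_ : Etale n) (_ : τ (closedPoint B) ∈ Set.range n)
      (q : N₀ ⟶ X₀) (p : N₀ ⟶ N) (_ : IsPullback q p j n) (W : FEt.Cat N),
        Nonempty ((FEt.restrict p).obj W ≅ (FEt.restrict q).obj Z) := by
  obtain ⟨ι, _, ⟨e⟩⟩ := exists_iso_trivialObj hs
  obtain ⟨S⟩ := exists_nSys hτ j hB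
  obtain ⟨i, ⟨e2⟩⟩ := S.exists_iso Z (trivialObj X₀ ι) ⟨e ≪≫ (restrictTrivial b ι).symm⟩
  refine ⟨S.N i, S.D.obj i, S.n i, inferInstance, ⟨S.l i (closedPoint B), ?_⟩, S.q i, S.p i, S.pb i,
    trivialObj (S.N i) ι, ⟨restrictTrivial _ ι ≪≫ (restrictTrivial _ ι).symm ≪≫ e2.symm⟩⟩
  rw [← Scheme.Hom.comp_apply, S.ln]

/-- the fraction field is algebraic -/
theorem algOver_fractionRing (O K : Type u) [CommRing O] [IsDomain O] [Field K] [Algebra O K]
    [IsFractionRing O K] : AlgOver (algebraMap O K) := by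
  intro y
  obtain ⟨a, b, hb, rfl⟩ := IsFractionRing.div_surjective (A := O) y
  have hb' : algebraMap O K b ≠ 0 := by
    rw [Ne, IsFractionRing.to_map_eq_zero_iff]
    exact nonZeroDivisors.ne_zero hb
  refine ⟨Polynomial.C b * Polynomial.X - Polynomial.C a, ?_, ?_⟩
  · intro h
    have := congrArg (fun p : Polynomial K => p.coeff 1) h
    simp [Polynomial.coeff_C] at this
    exact hb' (by simpa using this)
  · simp
    field_simp
    simp

/-- the generic fibre of a local algebra -/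
theorem exists_tensor {O A K : Type u} [CommRing O] [IsDomain O] [CommRing A] [Field K] [Algebra O K]
    [IsFractionRing O K] (ψ : O →+* A) : ∃ (D : Type u) (_ : CommRing D) (c : A →+* D) (w : K →+* D),
      IsPullback (spm c) (spm w) (spm ψ) (spm (algebraMap O K)) ∧
      ∀ (L : Type u) [Field L] (κ : D →+* L), AlgOver κ → AlgOver (κ.comp c) := by
  let _ : Algebra O A := ψ.toAlgebra
  let c : A →+* A ⊗[O] K := (Algebra.TensorProduct.includeLeft : A →ₐ[O] A ⊗[O] K).toRingHom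
  let w : K →+* A ⊗[O] K := (Algebra.TensorProduct.includeRight : K →ₐ[O] A ⊗[O] K).toRingHom
  have hT : IsPullback (spm c) (spm w) (spm ψ) (spm (algebraMap O K)) :=
    isPullback_SpecMap_of_isPushout _ _ _ _ (CommRingCat.isPushout_tensorProduct O A K)
  have hcw : c.comp ψ = w.comp (algebraMap O K) := by
    rw [← spm_inj, spm_comp, spm_comp, hT.w]
  have hgen : ∀ d : A ⊗[O] K, d ∈ Subring.closure (Set.range c ∪ Set.range w) := by
    intro d
    induction d with
    | zero => exact zero_mem _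
    | tmul a b =>
      have : a ⊗ₜ[O] b = c a * w b := by
        change _ = (a ⊗ₜ[O] 1) * (1 ⊗ₜ[O] b)
        rw [Algebra.TensorProduct.tmul_mul_tmul, mul_one, one_mul]
      rw [this]
      exact mul_mem (Subring.subset_closure (Or.inl ⟨a, rfl⟩)) (Subring.subset_closure (Or.inr ⟨b, rfl⟩))
    | add a b ha hb => exact add_mem ha hb
  exact ⟨A ⊗[O] K, inferInstance, c, w, hT, fun L _ κ hκ =>
    algOver_tensor ψ (algebraMap O K) (algOver_fractionRing O K) c w hcw hgen κ hκ⟩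

/-- the closed fibre is connected when a geometric closed fibre is -/
theorem isPreconnected_closedFibre {A : Type u} [CommRing A] [IsLocalRing A] {X : Scheme.{u}}
    (f : X ⟶ Spec (CommRingCat.of A)) (K : Type u) [Field K] (ξ : A →+* K) [IsLocalHom ξ]
    (h : ConnectedSpace ↥(pullback f (spm ξ))) :
    _root_.IsPreconnected {x : X | f x = closedPoint A} := by
  have h1 : {x : X | f x = closedPoint A} = Set.range (pullback.fst f (spm ξ)) := by
    ext x
    constructor
    · intro hx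
      obtain ⟨w, hw, -⟩ := Scheme.Pullback.exists_preimage_pullback (f := f) (g := spm ξ) x
        (closedPoint K) (hx.trans (closedPoint_map ξ).symm)
      exact ⟨w, hw⟩
    · rintro ⟨w, rfl⟩
      change f (pullback.fst f (spm ξ) w) = closedPoint A
      rw [← Scheme.Hom.comp_apply, pullback.condition, Scheme.Hom.comp_apply,
        spec_field_closedPoint (pullback.snd f (spm ξ) w)]
      exact closedPoint_map ξ
  rw [h1]
  exact isPreconnected_range (pullback.fst f (spm ξ)).continuous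

/-- the local statement -/
theorem local_split (hFib : FibStmt.{u})
    (hAs : ∀ (n : ℕ) {X S : Scheme.{u}} (f : X ⟶ S) [Smooth f], Asph n f)
    {S X : Scheme.{u}} [IsIntegral S] (f : X ⟶ S) [Smooth f]
    (hfib : ∀ (K : Type u) [Field K] [IsAlgClosed K] (t : Spec (CommRingCat.of K) ⟶ S),
      ConnectedSpace ↥(pullback f t))
    (σ : S ⟶ X) (hσ : σ ≫ f = 𝟙 S)
    (G : Type) [Group G] [Finite G] (hG : IsUnit ((Nat.card G : ℕ) : ↑(S.presheaf.obj (op ⊤))))
    (Z : FEt.Cat (pullback f (S.fromSpecStalk (genericPoint S)))) (ρ : G →* Aut Z)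
    (hZ : SGA1t.IsPrincipal G Z ρ)
    (hz : ∃ z : Spec (S.presheaf.stalk (genericPoint S)) ⟶ Z.left,
      z ≫ Z.hom ≫ pullback.fst f (S.fromSpecStalk (genericPoint S)) =
        (S.fromSpecStalk (genericPoint S)) ≫ σ ∧
      z ≫ Z.hom ≫ pullback.snd f (S.fromSpecStalk (genericPoint S)) = 𝟙 _) (x : X) :
    ∃ (B : Type u) (_ : CommRing B) (_ : IsLocalRing B) (τ : Spec (CommRingCat.of B) ⟶ X)
      (_ : IsStrictLoc τ) (_ : τ (closedPoint B) = x) (XB : Scheme.{u})
      (b : XB ⟶ pullback f (S.fromSpecStalk (genericPoint S))) (c : XB ⟶ Spec (CommRingCat.of B))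
      (_ : IsPullback b c (pullback.fst f (S.fromSpecStalk (genericPoint S))) τ),
      Pi1.IsSplit ((FEt.restrict b).obj Z) := by
  obtain ⟨A, _, _, τA, hτA, hsA⟩ := exists_isStrictLoc S (f x)
  have hA := hτA.henselian
  have hA' := hτA.sepClosed
  obtain ⟨ψ, hψ, hψA⟩ := exists_stalk_hom τA (f x) hsA
  let O : Type u := S.presheaf.stalk (f x)
  let K : Type u := S.functionField
  let j₀ := S.fromSpecStalk (genericPoint S)
  let j := pullback.fst f j₀
  let f₀ := pullback.snd f j₀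
  obtain ⟨D, _, c, w, hT, hδ⟩ := exists_tensor (O := O) (K := K) ψ
  have hj₀ : spm (algebraMap O K) ≫ S.fromSpecStalk (f x) = j₀ :=
    Scheme.SpecMap_stalkSpecializes_fromSpecStalk ((genericPoint_spec S).specializes trivial)
  have hTS : IsPullback (spm c) (spm w) τA j₀ := by
    have h1 := isPullback_comp_mono (S.fromSpecStalk (f x)) hT
    rwa [hj₀, show spm ψ ≫ S.fromSpecStalk (f x) = τA from hψA] at h1
  -- the family over `Spec A`
  let XA := pullback f τA
  let pA : XA ⟶ X := pullback.fst f τA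
  let fA : XA ⟶ Spec (CommRingCat.of A) := pullback.snd f τA
  let XD := pullback fA (spm c)
  let a : XD ⟶ XA := pullback.fst fA (spm c)
  let fD : XD ⟶ Spec (CommRingCat.of D) := pullback.snd fA (spm c)
  have hXD : IsPullback a fD fA (spm c) := IsPullback.of_hasPullback _ _
  have hXA : IsPullback pA fA f τA := IsPullback.of_hasPullback _ _
  have hX₀ : IsPullback j f₀ f j₀ := IsPullback.of_hasPullback _ _
  let b₀ : XD ⟶ pullback f j₀ := pullback.lift (a ≫ pA) (fD ≫ spm w) (by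
    rw [Category.assoc, hXA.w, ← Category.assoc, hXD.w, Category.assoc, Category.assoc, hTS.w]
    rfl)
  have hb₀1 : b₀ ≫ j = a ≫ pA := pullback.lift_fst _ _ _
  have hb₀2 : b₀ ≫ f₀ = fD ≫ spm w := pullback.lift_snd _ _ _
  have hb₀ : IsPullback b₀ a j pA := by
    refine IsPullback.of_right (h₁₂ := f₀) (v₁₃ := j₀) (h₂₂ := f) ?_ hb₀1 hX₀.flip
    rw [hb₀2, hXA.w]
    exact hXD.flip.paste_horiz hTS.flip
  let σA : Spec (CommRingCat.of A) ⟶ XA := pullback.lift (τA ≫ σ) (𝟙 _) (by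
    rw [Category.assoc, hσ, Category.comp_id, Category.id_comp])
  have hσA1 : σA ≫ pA = τA ≫ σ := pullback.lift_fst _ _ _
  have hσA2 : σA ≫ fA = 𝟙 _ := pullback.lift_snd _ _ _
  let sD : Spec (CommRingCat.of D) ⟶ XD := pullback.lift (spm c ≫ σA) (𝟙 _) (by
    rw [Category.assoc, hσA2, Category.comp_id, Category.id_comp])
  have hsD1 : sD ≫ a = spm c ≫ σA := pullback.lift_fst _ _ _
  have hsD2 : sD ≫ fD = 𝟙 _ := pullback.lift_snd _ _ _
  -- the cover over the section
  obtain ⟨z, hz1, hz2⟩ := hz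
  let σ₀ : Spec (CommRingCat.of K) ⟶ pullback f j₀ := pullback.lift (j₀ ≫ σ) (𝟙 _) (by
    rw [Category.assoc, hσ, Category.comp_id, Category.id_comp])
  have hσ₀1 : σ₀ ≫ j = j₀ ≫ σ := pullback.lift_fst _ _ _
  have hσ₀2 : σ₀ ≫ f₀ = 𝟙 _ := pullback.lift_snd _ _ _
  have hzσ : z ≫ Z.hom = σ₀ := by
    apply hX₀.hom_ext
    · rw [hσ₀1, Category.assoc]
      exact hz1
    · rw [hσ₀2, Category.assoc]
      exact hz2
  have hsp₀ : Pi1.IsSplit ((FEt.restrict σ₀).obj Z) := by
    refine isSplit_of_sec _ _ (Groth.Agent.Pi1.H408.PrincRestrict.isPrincipal_restrict σ₀ Z ρ hZ)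
      ⟨(isPullback σ₀ Z).lift z (𝟙 _) (by rw [hzσ, Category.id_comp]), (isPullback σ₀ Z).lift_snd _ _ _⟩
  have hsb : sD ≫ b₀ = spm w ≫ σ₀ := by
    apply hX₀.hom_ext
    · rw [Category.assoc, hb₀1, reassoc_of% hsD1, hσA1, Category.assoc, hσ₀1, reassoc_of% hTS.w]
    · rw [Category.assoc, hb₀2, reassoc_of% hsD2, Category.assoc, hσ₀2, Category.comp_id]
  have hspD : Pi1.IsSplit ((FEt.restrict sD).obj ((FEt.restrict b₀).obj Z)) := by
    rw [isSplit_comp sD b₀ (spm w ≫ σ₀) hsb, ← isSplit_comp (spm w) σ₀ _ rfl]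
    exact isSplit_restrict (spm w) hsp₀
  -- the closed fibre
  let ξ : A →+* AlgebraicClosure (ResidueField A) :=
    (algebraMap (ResidueField A) (AlgebraicClosure (ResidueField A))).comp (residue A)
  have hξ : IsLocalHom ξ := inferInstance
  have hcon : ConnectedSpace ↥(pullback fA (spm ξ)) := by
    have h1 := hfib (AlgebraicClosure (ResidueField A)) (spm ξ ≫ τA)
    have h2 : IsPullback (pullback.fst fA (spm ξ) ≫ pA) (pullback.snd fA (spm ξ)) f (spm ξ ≫ τA) :=
      (IsPullback.of_hasPullback fA (spm ξ)).paste_horiz hXA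
    exact (Scheme.homeoOfIso h2.isoPullback).symm.surjective.connectedSpace
      (Scheme.homeoOfIso h2.isoPullback).symm.continuous
  have hpre := isPreconnected_closedFibre fA _ ξ hcon
  obtain ⟨y, hy1, hy2⟩ := Scheme.Pullback.exists_preimage_pullback (f := f) (g := τA) x
    (closedPoint A) hsA.symm
  obtain ⟨B, _, _, τ, hτ, hτy⟩ := exists_isStrictLoc XA y
  have hwA : WeaklyEtale τA := weaklyEtale_of_isStrictLoc hτA
  have hwp : WeaklyEtale pA := MorphismProperty.of_isPullback hXA.flip hwA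
  have hn : IsUnit ((Nat.card G : ℕ) : A) := by
    have h1 := hG.map ((τA.appTop ≫ (Scheme.ΓSpecIso (CommRingCat.of A)).hom).hom)
    rwa [map_natCast] at h1
  have hgr : GeometricallyReduced fA := Groth.Agent.Flat2B.SmoothGeom.geometricallyReduced_of_smooth fA
  have hmain := hFib hA hA' hn c hδ fA (K548.GenGood.isGood_of_flat fA) (hAs _ fA) hpre σA hσA2 hXD G
    dvd_rfl ((FEt.restrict b₀).obj Z) _
    (Groth.Agent.Pi1.H408.PrincRestrict.isPrincipal_restrict b₀ Z ρ hZ) sD hsD1 hsD2 hspD τ hτ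
    (by rw [hτy]; exact hy2) (IsPullback.of_hasPullback a τ)
  refine ⟨B, inferInstance, inferInstance, τ ≫ pA, hτ.comp pA, ?_, pullback a τ,
    pullback.fst a τ ≫ b₀, pullback.snd a τ, (IsPullback.of_hasPullback a τ).paste_horiz hb₀, ?_⟩
  · rw [Scheme.Hom.comp_apply, hτy]
    exact hy1
  · rwa [isSplit_comp _ _ _ rfl] at hmain

/-- **Galois covers of the generic fibre with a rational point over a section extend** -/
theorem main (hFib : FibStmt.{u})
    (hAs : ∀ (n : ℕ) {X S : Scheme.{u}} (f : X ⟶ S) [Smooth f], Asph n f)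
    {S X : Scheme.{u}} [IsIntegral S] (f : X ⟶ S) [Smooth f]
    (hfib : ∀ (K : Type u) [Field K] [IsAlgClosed K] (t : Spec (CommRingCat.of K) ⟶ S),
      ConnectedSpace ↥(pullback f t))
    (σ : S ⟶ X) (hσ : σ ≫ f = 𝟙 S)
    (Z : FEt.Cat (pullback f (S.fromSpecStalk (genericPoint S)))) (hZ : PiSp.IsGaloisCover Z)
    (hG : IsUnit ((Nat.card (Aut Z) : ℕ) : ↑(S.presheaf.obj (op ⊤))))
    (hz : ∃ z : Spec (S.presheaf.stalk (genericPoint S)) ⟶ Z.left,
      z ≫ Z.hom ≫ pullback.fst f (S.fromSpecStalk (genericPoint S)) =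
        (S.fromSpecStalk (genericPoint S)) ≫ σ ∧
      z ≫ Z.hom ≫ pullback.snd f (S.fromSpecStalk (genericPoint S)) = 𝟙 _)
    [ConnectedSpace X] [ConnectedSpace ↥(pullback f (S.fromSpecStalk (genericPoint S)))]
    [QuasiCompact (S.fromSpecStalk (genericPoint S))]
    [QuasiSeparated (S.fromSpecStalk (genericPoint S))]
    [IsIso (S.fromSpecStalk (genericPoint S)).fromNormalization]
    [(FEt.restrict (pullback.fst f (S.fromSpecStalk (genericPoint S)))).Full]
    [(FEt.restrict (pullback.fst f (S.fromSpecStalk (genericPoint S)))).Faithful] :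
    ∃ Y : FEt.Cat X, Nonempty ((FEt.restrict (pullback.fst f (S.fromSpecStalk (genericPoint S)))).obj Y ≅ Z) ∧
      PiSp.IsGaloisCover Y ∧ Nonempty (Aut Y ≃* Aut Z) := by
  have hc : ConnectedSpace Z.left := hZ.1
  have hfin : Finite (Aut Z) := Groth.Agent.Pi1.H538.PPrime.finite_aut Z
  obtain ⟨G, _, _, ⟨θ⟩, hcard⟩ := Groth.Agent.Pi1.H538.PPrime.exists_small (Aut Z)
  have hP := Groth.Agent.Pi1.H538.PPrime.isPrincipal_comp θ
    (Groth.Agent.Pi1.H538.PPrime.isPrincipal_of_isGaloisCover Z hZ)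
  have h1 : IsIso (pullback.fst f (S.fromSpecStalk (genericPoint S))).fromNormalization :=
    K156.ExtNorm.isIso_of_isPullback (IsPullback.of_hasPullback f (S.fromSpecStalk (genericPoint S))).flip
  obtain ⟨Y, ⟨e⟩⟩ := exists_ext' (pullback.fst f (S.fromSpecStalk (genericPoint S))) Z fun x => by
    obtain ⟨B, _, _, τ, hτ, hτx, XB, b, c, hB, hs⟩ := local_split hFib hAs f hfib σ hσ G
      (by rw [hcard]; exact hG) Z _ hP hz x
    rw [← hτx]
    exact exists_nbhd _ Z hτ hB hs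
  refine ⟨Y, ⟨e⟩, (Groth.Agent.Pi1.H538.PresGal.isGalois_of_fullyFaithful _ inferInstance inferInstance
    Y Z e hZ).1, ⟨?_⟩⟩
  exact ((Functor.FullyFaithful.ofFullyFaithful (FEt.restrict
    (pullback.fst f (S.fromSpecStalk (genericPoint S))))).autMulEquivOfFullyFaithful Y).trans
      (Aut.autMulEquivOfIso e)

end K156.GalExt
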