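import Mathlib
import Groth.Agent.S0271
import Groth.Agent.Proet.IndZariski2
import Groth.Agent.Sga7.H938.StrictLocInd

/-!
# Inertia invariants of a profinite group action are ind-étale
-/

set_option autoImplicit false
universe u

open scoped Pointwise

namespace K156.InertiaLim

open Groth.Agent

section lift

variable {A B : Type*} [CommRing A] [CommRing B] [Algebra A B]
variable {G : Type u} [Group G] [MulSemiringAction G B] [SMulCommClass G A B]
variable [TopologicalSpace G] [CompactSpace G] [TotallyDisconnectedSpace G]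
variable [IsTopologicalGroup G] [TopologicalSpace B] [DiscreteTopology B] [ContinuousSMul G B]

/-- Every element of the inertia group of the quotient `G/N` lifts to the inertia group of `G`. -/
theorem exists_lift (q : Ideal B) [q.IsPrime] (N : Subgroup G) [N.Normal] (hN : IsClosed (N : Set G))
    (g : G) (hg : ∀ b : B, (∀ n ∈ N, n • b = b) → g • b - b ∈ q) :
    ∃ h ∈ q.inertia G, ∃ n ∈ N, h = n * g := by
  have hc : CompactSpace N := isCompact_iff_compactSpace.1 hN.isCompact
  let B' := FixedPoints.subalgebra ℤ B N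
  have hinv : Algebra.IsInvariant B' B N := ⟨fun b hb => ⟨⟨b, hb⟩, rfl⟩⟩
  have hfix : ∀ b : B', ∀ n ∈ N, n • (b : B) = b := fun b n hn => b.2 ⟨n, hn⟩
  have hfix' : ∀ b : B', ∀ n ∈ N, n • g • (b : B) = g • (b : B) := fun b n hn => by
    have h1 : g⁻¹ * n * g ∈ N := by
      have := (inferInstance : N.Normal).conj_mem n hn g⁻¹
      simpa using this
    have h2 := hfix b _ h1
    conv_rhs => rw [← h2]
    rw [smul_smul, smul_smul]
    congr 1
    group
  have hfix'' : ∀ b : B', ∀ n ∈ N, n • g⁻¹ • (b : B) = g⁻¹ • (b : B) := fun b n hn => by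
    have h1 : g * n * g⁻¹ ∈ N := (inferInstance : N.Normal).conj_mem n hn g
    have h2 := hfix b _ h1
    conv_rhs => rw [← h2]
    rw [smul_smul, smul_smul]
    congr 1
    group
  -- `g • q` and `q` lie over the same prime
  have h1 : (g • q).under B' = q.under B' := by
    ext b
    have h2 := hg (g⁻¹ • (b : B)) (hfix'' b)
    rw [smul_inv_smul] at h2
    rw [Ideal.mem_comap, Ideal.mem_comap, Ideal.mem_pointwise_smul_iff_inv_smul_mem]
    change g⁻¹ • (b : B) ∈ q ↔ (b : B) ∈ q
    constructor
    · intro h3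
      have := q.add_mem h3 h2
      simpa using this
    · intro h3
      have := q.sub_mem h3 h2
      simpa using this
  have hgq : (g • q).IsPrime := inferInstance
  obtain ⟨n, hn⟩ := Algebra.IsInvariant.exists_smul_of_under_eq_of_profinite (A := B') (G := N)
    (g • q) q h1
  have hn' : ((n : G) * g) • q = q := by
    rw [mul_smul]
    exact hn.symm
  have hover : q.LiesOver (q.under B') := ⟨rfl⟩
  let e0 : B ≃+* B := MulSemiringAction.toRingEquiv G B ((n : G) * g)
  have he0 : ∀ b, e0 b = ((n : G) * g) • b := fun b => rfl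
  have hmap : q = q.map (e0 : B →+* B) := by
    conv_lhs => rw [← hn']
    rfl
  let σ : (B ⧸ q) ≃ₐ[B' ⧸ q.under B'] (B ⧸ q) :=
    AlgEquiv.ofRingEquiv (f := Ideal.quotientEquiv q q e0 hmap) (by
      intro x
      obtain ⟨b, rfl⟩ := Ideal.Quotient.mk_surjective x
      change Ideal.Quotient.mk q (e0 (b : B)) = Ideal.Quotient.mk q (b : B)
      rw [Ideal.Quotient.eq, he0, mul_smul, hfix' b n n.2]
      exact hg b (hfix b))
  obtain ⟨m, hm⟩ := Ideal.Quotient.stabilizerHom_surjective_of_profinite (A := B') (G := N)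
    (q.under B') q σ
  have hm' : ∀ b : B, (m : N) • b - ((n : G) * g) • b ∈ q := by
    intro b
    rw [← Ideal.Quotient.eq]
    exact congrArg (fun φ : (B ⧸ q) ≃ₐ[B' ⧸ q.under B'] (B ⧸ q) => φ (Ideal.Quotient.mk q b)) hm
  have hmq : ((m : N) : G) • q = q := m.2
  refine ⟨((m : N) : G)⁻¹ * ((n : G) * g), ?_, ((m : N) : G)⁻¹ * n, N.mul_mem (N.inv_mem (m : N).2) n.2,
    by rw [mul_assoc]⟩
  intro b
  have h3 := hm' b
  change (((m : N) : G)⁻¹ * ((n : G) * g)) • b - b ∈ q
  have h3' : ((m : N) : G)⁻¹ • (((m : N) : G) • b - ((n : G) * g) • b) ∈ q := by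
    rw [← Ideal.mem_pointwise_smul_iff_inv_smul_mem, hmq]
    exact h3
  have h4 : b - (((m : N) : G)⁻¹ * ((n : G) * g)) • b ∈ q := by
    rwa [smul_sub, inv_smul_smul, ← mul_smul] at h3'
  have h5 := q.neg_mem h4
  rwa [neg_sub] at h5

end lift

section finite

/-- A localization at a prime is ind-étale as soon as it is a localization of an étale algebra. -/
theorem isIndEtale_of_away {A T W : Type u} [CommRing A] [CommRing T] [CommRing W] [Algebra A T]
    [Algebra T W] [Algebra A W] [IsScalarTower A T W] (P : Ideal T) [P.IsPrime]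
    [IsLocalization.AtPrime W P] (x : T) (hx : x ∉ P)
    (h : Algebra.Etale A (Localization.Away x)) : EtPBC.IsIndEtale A W := by
  have hle : Submonoid.powers x ≤ P.primeCompl := by
    rw [Submonoid.powers_le]
    exact hx
  let _ : Algebra (Localization.Away x) W := IsLocalization.localizationAlgebraOfSubmonoidLe
    (Localization.Away x) W (Submonoid.powers x) P.primeCompl hle
  have hst : IsScalarTower T (Localization.Away x) W :=
    IsLocalization.localization_isScalarTower_of_submonoid_le _ _ _ _ hle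
  have hst2 : IsScalarTower A (Localization.Away x) W := IsScalarTower.of_algebraMap_eq fun a => by
    rw [IsScalarTower.algebraMap_apply A T W, IsScalarTower.algebraMap_apply A T (Localization.Away x),
      ← IsScalarTower.algebraMap_apply T (Localization.Away x) W]
  have h2 : IsLocalization (P.primeCompl.map (algebraMap T (Localization.Away x))) W :=
    IsLocalization.isLocalization_of_submonoid_le _ _ (Submonoid.powers x) _ hle
  exact Proet.IndEtale.isIndEtale_trans A (Localization.Away x) W
    (Proet.IndEtale.isIndEtale_of_etale _ _)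
    (Sga7.H938.StrictLocInd.isIndEtale_of_isLocalization
      (P.primeCompl.map (algebraMap T (Localization.Away x))) W)

/-- The case of a finite group. -/
theorem isIndEtale_of_finite {A R T W : Type u} [CommRing A] [CommRing R] [Algebra A R]
    {G : Type u} [Group G] [Finite G] [MulSemiringAction G R] [SMulCommClass G A R]
    [Algebra.IsInvariant A R G] (hinj : Function.Injective (algebraMap A R))
    (q : Ideal R) [q.IsPrime] [CommRing T] [Algebra A T] (j : T →ₐ[A] R)
    (hj : Function.Injective j)
    (hr : ∀ b : R, b ∈ Set.range j ↔ ∀ g ∈ q.inertia G, g • b = b)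
    [CommRing W] [Algebra T W] [Algebra A W] [IsScalarTower A T W] (P : Ideal T) [P.IsPrime]
    (hP : P = q.comap j) [IsLocalization.AtPrime W P] : EtPBC.IsIndEtale A W := by
  obtain ⟨g, hg, het⟩ := S0271.result G R q
  let F := FixedPoints.subring R (q.inertia G)
  let F0 := FixedPoints.subring R G
  -- `T ≃ F`
  have hjF : ∀ t, j t ∈ F := fun t => fun h => (hr (j t)).1 ⟨t, rfl⟩ h.1 h.2
  let e : T ≃+* F := RingEquiv.ofBijective ((j : T →+* R).codRestrict F hjF)
    ⟨fun a b hab => hj (congrArg Subtype.val hab), fun y => by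
      obtain ⟨t, ht⟩ := (hr y.1).2 fun h hh => y.2 ⟨h, hh⟩
      exact ⟨t, Subtype.ext ht⟩⟩
  have he : ∀ t, (e t : R) = j t := fun t => rfl
  -- `A ≃ F0`
  have hAF : ∀ a, algebraMap A R a ∈ F0 := fun a h => smul_algebraMap h a
  let e0 : A ≃+* F0 := RingEquiv.ofBijective ((algebraMap A R).codRestrict F0 hAF)
    ⟨fun a b hab => hinj (congrArg Subtype.val hab), fun y => by
      obtain ⟨a, ha⟩ := Algebra.IsInvariant.isInvariant (A := A) (G := G) y.1 (fun h => y.2 h)
      exact ⟨a, Subtype.ext ha⟩⟩
  let x : T := e.symm g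
  have hex : e x = g := e.apply_symm_apply g
  have hx : x ∉ P := by
    rw [hP]
    intro h
    refine hg ?_
    change (g : R) ∈ q
    rw [← hex, he]
    exact h
  refine isIndEtale_of_away P x hx ?_
  have h1 : (algebraMap F0 (Localization.Away g)).Etale := RingHom.etale_algebraMap.2 het
  let θ : Localization.Away g ≃+* Localization.Away x :=
    IsLocalization.ringEquivOfRingEquiv (M := Submonoid.powers g) (T := Submonoid.powers x) _ _ e.symm
      (by rw [Submonoid.map_powers]; rfl)
  have h2 : ((θ : Localization.Away g →+* Localization.Away x).comp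
      ((algebraMap F0 (Localization.Away g)).comp (e0 : A →+* F0))).Etale :=
    RingHom.Etale.stableUnderComposition _ _
      (RingHom.Etale.stableUnderComposition _ _ (RingHom.Etale.of_bijective e0.bijective) h1)
      (RingHom.Etale.of_bijective θ.bijective)
  have h3 : (θ : Localization.Away g →+* Localization.Away x).comp
      ((algebraMap F0 (Localization.Away g)).comp (e0 : A →+* F0)) =
      algebraMap A (Localization.Away x) := by
    ext a
    have h4 : algebraMap F0 (Localization.Away g) (e0 a) =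
      algebraMap F (Localization.Away g) (algebraMap F0 F (e0 a)) :=
        IsScalarTower.algebraMap_apply _ _ _ _
    have h5 : algebraMap F0 F (e0 a) = e (algebraMap A T a) := by
      apply Subtype.ext
      rw [he, AlgHom.commutes]
      rfl
    change θ (algebraMap F0 (Localization.Away g) (e0 a)) = _
    rw [h4, h5, IsLocalization.ringEquivOfRingEquiv_eq, e.symm_apply_apply,
      ← IsScalarTower.algebraMap_apply]
  rw [h3] at h2
  exact RingHom.etale_algebraMap.1 h2

end finite

section profinite

variable {A B : Type u} [CommRing A] [CommRing B] [Algebra A B]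
variable {G : Type u} [Group G] [MulSemiringAction G B] [SMulCommClass G A B]
variable [TopologicalSpace G] [CompactSpace G] [TotallyDisconnectedSpace G]
variable [IsTopologicalGroup G] [TopologicalSpace B] [DiscreteTopology B] [ContinuousSMul G B]

/-- The case of the invariants of an open normal subgroup. -/
theorem isIndEtale_stage [Algebra.IsInvariant A B G] (hinj : Function.Injective (algebraMap A B))
    (q : Ideal B) [q.IsPrime] (N : OpenNormalSubgroup G)
    {T W : Type u} [CommRing T] [Algebra A T] (j : T →ₐ[A] B) (hj : Function.Injective j)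
    (hr : ∀ b : B, b ∈ Set.range j ↔ (∀ g ∈ q.inertia G, g • b = b) ∧ ∀ n ∈ N, n • b = b)
    [CommRing W] [Algebra T W] [Algebra A W] [IsScalarTower A T W] (P : Ideal T) [P.IsPrime]
    (hP : P = q.comap j) [IsLocalization.AtPrime W P] : EtPBC.IsIndEtale A W := by
  let R := FixedPoints.subalgebra A B N.1.1
  have hjR : ∀ t, j t ∈ R := fun t n => ((hr (j t)).1 ⟨t, rfl⟩).2 n.1 n.2
  let jR : T →ₐ[A] R := j.codRestrict R hjR
  have hNc : IsClosed (N.1.1 : Set G) := N.1.1.isClosed_of_isOpen N.1.2
  have hfin : Finite (G ⧸ N.1.1) := Subgroup.quotient_finite_of_isOpen N.1.1 N.1.2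
  have hmem : ∀ (g : G), (QuotientGroup.mk g : G ⧸ N.1.1) ∈ (q.comap R.val).inertia (G ⧸ N.1.1) ↔
      ∀ b : B, (∀ n ∈ N.1.1, n • b = b) → g • b - b ∈ q := by
    intro g
    constructor
    · intro h b hb
      exact h ⟨b, fun n => hb n.1 n.2⟩
    · intro h b
      exact h b.1 fun n hn => b.2 ⟨n, hn⟩
  refine isIndEtale_of_finite (G := G ⧸ N.1.1) (R := R)
    (fun a b hab => hinj (congrArg Subtype.val hab)) (q.comap R.val) jR
    (fun a b hab => hj (congrArg Subtype.val hab)) (fun b => ?_) P (by rw [hP]; rfl)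
  constructor
  · rintro ⟨t, ht⟩ γ hγ
    obtain ⟨g, rfl⟩ := QuotientGroup.mk_surjective γ
    obtain ⟨h, hh, n, hn, hng⟩ := exists_lift q N.1.1 hNc g ((hmem g).1 hγ)
    have h1 : (b : B) = j t := (congrArg Subtype.val ht).symm
    have h2 : h • (b : B) = b := ((hr b).1 ⟨t, h1.symm⟩).1 h hh
    rw [hng, mul_smul] at h2
    apply Subtype.ext
    change g • (b : B) = b
    rw [eq_inv_smul_iff.2 h2]
    exact b.2 ⟨n⁻¹, N.1.1.inv_mem hn⟩
  · intro h
    obtain ⟨t, ht⟩ := (hr b.1).2 ⟨fun g hg => by
      have h1 := h (QuotientGroup.mk g) ((hmem g).2 fun c _ => hg c)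
      exact congrArg Subtype.val h1, fun n hn => b.2 ⟨n, hn⟩⟩
    exact ⟨t, Subtype.ext ht⟩

/-- The localization of the inertia invariants at the prime is ind-étale. -/
theorem isIndEtale_of_profinite [IsDomain B] [Algebra.IsInvariant A B G]
    (hinj : Function.Injective (algebraMap A B)) (q : Ideal B) [q.IsPrime]
    {S W : Type u} [CommRing S] [Algebra A S] (j : S →ₐ[A] B) (hj : Function.Injective j)
    (hr : ∀ b : B, b ∈ Set.range j ↔ ∀ g ∈ q.inertia G, g • b = b)
    [CommRing W] [Algebra S W] [Algebra A W] [IsScalarTower A S W] (P : Ideal S) [P.IsPrime]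
    (hP : P = q.comap j) [IsLocalization.AtPrime W P] : EtPBC.IsIndEtale A W := by
  have hSd : IsDomain S := hj.isDomain (j : S →+* B)
  have hle : P.primeCompl ≤ nonZeroDivisors S := P.primeCompl_le_nonZeroDivisors
  have hSW : Function.Injective (algebraMap S W) := IsLocalization.injective W hle
  refine Proet.IndZariski.isIndEtale_of_factor_ind A W fun Z _ _ hZ g => ?_
  obtain ⟨t, ht⟩ := (inferInstance : Algebra.FiniteType A Z).out
  choose as has using fun z : Z => IsLocalization.surj P.primeCompl (g z)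
  -- an open normal subgroup fixing all numerators and denominators
  have hO : IsOpen (⋂ z ∈ (t : Set Z), ((MulAction.stabilizer G (j (as z).1) : Set G) ∩
      (MulAction.stabilizer G (j (as z).2.1) : Set G))) :=
    t.finite_toSet.isOpen_biInter fun z _ => (stabilizer_isOpen G _).inter (stabilizer_isOpen G _)
  obtain ⟨N, hN⟩ := ProfiniteGrp.exist_openNormalSubgroup_sub_open_nhds_of_one hO
    (Set.mem_iInter₂.2 fun z _ => ⟨one_mem _, one_mem _⟩)
  have hN1 : ∀ z ∈ t, ∀ n ∈ N.1.1, n • j (as z).1 = j (as z).1 := fun z hz n hn =>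
    (Set.mem_iInter₂.1 (hN hn) z hz).1
  have hN2 : ∀ z ∈ t, ∀ n ∈ N.1.1, n • j (as z).2.1 = j (as z).2.1 := fun z hz n hn =>
    (Set.mem_iInter₂.1 (hN hn) z hz).2
  let T : Subalgebra A S := (FixedPoints.subalgebra A B N.1.1).comap j
  let P' : Ideal T := P.comap T.val
  have hP' : P'.IsPrime := inferInstance
  let W' := Localization.AtPrime P'
  have hW' : EtPBC.IsIndEtale A W' := by
    refine isIndEtale_stage hinj q N (j.comp T.val) (fun a b hab => Subtype.ext (hj hab))
      (fun b => ?_) P' (by rw [show P' = P.comap T.val from rfl, hP]; rfl)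
    constructor
    · rintro ⟨s, rfl⟩
      exact ⟨(hr _).1 ⟨s.1, rfl⟩, fun n hn => s.2 ⟨n, hn⟩⟩
    · rintro ⟨h1, h2⟩
      obtain ⟨s, rfl⟩ := (hr b).2 h1
      exact ⟨⟨s, fun n => h2 n.1 n.2⟩, rfl⟩
  have hu : ∀ y : P'.primeCompl, IsUnit (((IsScalarTower.toAlgHom A S W).comp T.val) y.1) := fun y =>
    IsLocalization.map_units W (⟨y.1.1, fun h => y.2 h⟩ : P.primeCompl)
  let v : W' →ₐ[A] W := IsLocalization.liftAlgHom (M := P'.primeCompl)
    (f := (IsScalarTower.toAlgHom A S W).comp T.val) hu
  have hv : ∀ s : T, v (algebraMap T W' s) = algebraMap S W s.1 := fun s => IsLocalization.lift_eq _ s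
  have hvinj : Function.Injective v := by
    rw [injective_iff_map_eq_zero]
    intro w hw
    obtain ⟨⟨a, s⟩, has⟩ := IsLocalization.surj P'.primeCompl w
    have h1 : v (algebraMap T W' a) = 0 := by
      rw [← has, map_mul, hw, zero_mul]
    rw [hv] at h1
    have h2 : a = 0 := Subtype.ext (hSW (h1.trans (map_zero _).symm))
    dsimp only at has
    rw [h2, map_zero] at has
    exact ((IsLocalization.map_units W' s).mul_left_eq_zero).1 has
  have hgv : g.range ≤ v.range := by
    have h1 : g.range = Algebra.adjoin A (g '' (t : Set Z)) := by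
      rw [← AlgHom.map_adjoin, ht, Algebra.map_top]
    rw [h1]
    refine Algebra.adjoin_le ?_
    rintro _ ⟨z, hz, rfl⟩
    have hs : (as z).2.1 ∈ T := fun n => hN2 z hz n.1 n.2
    have ha : (as z).1 ∈ T := fun n => hN1 z hz n.1 n.2
    refine ⟨IsLocalization.mk' W' (⟨(as z).1, ha⟩ : T)
      (⟨⟨(as z).2.1, hs⟩, fun h => (as z).2.2 h⟩ : P'.primeCompl), ?_⟩
    have h2 := has z
    have h3 : v (IsLocalization.mk' W' (⟨(as z).1, ha⟩ : T)
      (⟨⟨(as z).2.1, hs⟩, fun h => (as z).2.2 h⟩ : P'.primeCompl)) * algebraMap S W (as z).2.1 =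
        algebraMap S W (as z).1 := by
      rw [← hv ⟨(as z).2.1, hs⟩, ← map_mul, ← hv ⟨(as z).1, ha⟩]
      congr 1
      exact IsLocalization.mk'_spec _ _ _
    rw [← h2] at h3
    exact (IsLocalization.map_units W (as z).2).mul_right_cancel h3
  refine ⟨W', inferInstance, inferInstance,
    ((AlgEquiv.ofInjective v hvinj).symm : v.range →ₐ[A] W').comp
      (g.codRestrict v.range fun z => hgv ⟨z, rfl⟩), v, hW', ?_⟩
  ext z
  have h1 := (AlgEquiv.ofInjective v hvinj).apply_symm_apply
    (g.codRestrict v.range (fun z => hgv ⟨z, rfl⟩) z)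
  exact congrArg Subtype.val h1

end profinite

end K156.InertiaLim
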