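import Groth.Agent.S4448
import Groth.Agent.Ega3B.NormalBirational
import Groth.Agent.Pi1A.NormalEtale
import Groth.Prelude.Def_FEt
import Mathlib.AlgebraicGeometry.Morphisms.FlatMono

/-!
# Covers of a normal scheme as normalizations in finite extensions of the function field
-/

set_option autoImplicit false
universe u v

open CategoryTheory CategoryTheory.Limits AlgebraicGeometry TopologicalSpace

namespace K156.NormCover

open Groth.Agent

section Mono

variable {X : Scheme.{u}} [IsIntegral X] {L : Type u} [Field L] (φ : X.functionField →+* L)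
  (g : Spec (CommRingCat.of L) ⟶ X)
  (hg : g = Spec.map (CommRingCat.ofHom φ) ≫ X.fromSpecStalk (genericPoint X))
  [QuasiCompact g] [QuasiSeparated g]

include hg in
theorem bijective_stalkClosedPointTo (hφ : φ.IsIntegral) :
    Function.Bijective (Scheme.stalkClosedPointTo g.toNormalization).hom := by
  obtain ⟨-, -, -, -, h1, h2⟩ := S4448.result X L φ g hg
  refine ⟨h1, fun y => ?_⟩
  have h3 : y ∈ Set.range (Scheme.stalkClosedPointTo g.toNormalization).hom := by
    rw [h2]
    exact hφ y
  exact h3

include hg in
theorem mono_toNormalization (hφ : φ.IsIntegral) : Mono g.toNormalization := by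
  have h1 := bijective_stalkClosedPointTo φ g hg hφ
  have h2 : IsIso (Scheme.stalkClosedPointTo g.toNormalization) :=
    (ConcreteCategory.isIso_iff_bijective _).2 h1
  rw [← Scheme.Spec_stalkClosedPointTo_fromSpecStalk g.toNormalization]
  infer_instance

omit [QuasiCompact g] [QuasiSeparated g] in
include hg in
theorem comp_eq (z : Spec (CommRingCat.of L)) : g z = genericPoint X := by
  have h1 : Spec.map (CommRingCat.ofHom φ) z = IsLocalRing.closedPoint X.functionField :=
    Subsingleton.elim (α := PrimeSpectrum X.functionField) _ _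
  rw [hg, Scheme.Hom.comp_apply, h1]
  exact X.fromSpecStalk_closedPoint

include hg in
/-- The generic fibre of the normalization in a finite extension. -/
theorem isPullback (hφ : φ.IsIntegral) [Etale g.fromNormalization]
    (het : Etale (Spec.map (CommRingCat.ofHom φ))) :
    IsPullback g.toNormalization (Spec.map (CommRingCat.ofHom φ)) g.fromNormalization
      (X.fromSpecStalk (genericPoint X)) := by
  obtain ⟨h0, -, h3, h4, -, -⟩ := S4448.result X L φ g hg
  have hw : g.toNormalization ≫ g.fromNormalization =
      Spec.map (CommRingCat.ofHom φ) ≫ X.fromSpecStalk (genericPoint X) := by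
    rw [Scheme.Hom.toNormalization_fromNormalization, hg]
  let t : Spec (CommRingCat.of L) ⟶ pullback g.fromNormalization (X.fromSpecStalk (genericPoint X)) :=
    pullback.lift g.toNormalization (Spec.map (CommRingCat.ofHom φ)) hw
  have ht1 : t ≫ pullback.fst _ _ = g.toNormalization := pullback.lift_fst _ _ _
  have ht2 : t ≫ pullback.snd _ _ = Spec.map (CommRingCat.ofHom φ) := pullback.lift_snd _ _ _
  have hmono : Mono t := by
    have := mono_toNormalization φ g hg hφ
    have : Mono (t ≫ pullback.fst _ _) := by rw [ht1]; infer_instance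
    exact mono_of_mono t (pullback.fst _ _)
  have hetale : Etale t := by
    have : Etale (t ≫ pullback.snd g.fromNormalization (X.fromSpecStalk (genericPoint X))) := by
      rw [ht2]; exact het
    exact Etale.of_comp t (pullback.snd g.fromNormalization (X.fromSpecStalk (genericPoint X)))
  have hsurj : Surjective t := by
    refine ⟨fun z => ⟨IsLocalRing.closedPoint L, ?_⟩⟩
    apply (pullback.fst g.fromNormalization (X.fromSpecStalk (genericPoint X))).isEmbedding.injective
    have h5 : pullback.fst g.fromNormalization (X.fromSpecStalk (genericPoint X))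
        (t (IsLocalRing.closedPoint L)) = g.toNormalization (IsLocalRing.closedPoint L) := by
      rw [← Scheme.Hom.comp_apply, ht1]
    rw [h5]
    refine (h4.trans ?_)
    have h6 : g.fromNormalization (pullback.fst g.fromNormalization
        (X.fromSpecStalk (genericPoint X)) z) = genericPoint X := by
      rw [← Scheme.Hom.comp_apply, pullback.condition, Scheme.Hom.comp_apply]
      have h7 : (pullback.snd g.fromNormalization (X.fromSpecStalk (genericPoint X)) z) =
        IsLocalRing.closedPoint X.functionField :=
        Subsingleton.elim (α := PrimeSpectrum X.functionField) _ _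
      rw [h7]
      exact X.fromSpecStalk_closedPoint
    have h8 : (pullback.fst g.fromNormalization (X.fromSpecStalk (genericPoint X)) z) ∈
        g.fromNormalization.base ⁻¹' {genericPoint X} := h6
    rw [h3] at h8
    exact h8.symm
  have hopen : IsOpenImmersion t := IsOpenImmersion.of_flat_of_mono t
  have hiso : IsIso t := (isIso_iff_isOpenImmersion_and_surjective t).2 ⟨hopen, hsurj⟩
  exact IsPullback.of_iso_pullback ⟨hw⟩ (asIso t) ht1 ht2

include hg in
/-- If the normalization is a finite etale cover then it restricts to `Spec L`. -/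
theorem essImage_of_prop (hφ : φ.IsIntegral) (hν : FEt.prop g.fromNormalization)
    (Y₀ : FEt.Cat (Spec X.functionField)) (e : Y₀.left ≅ Spec (CommRingCat.of L))
    (he : e.hom ≫ Spec.map (CommRingCat.ofHom φ) = Y₀.hom) :
    (FEt.restrict (X.fromSpecStalk (genericPoint X))).essImage Y₀ := by
  have hν1 : Etale g.fromNormalization := hν.2
  have het : Etale (Spec.map (CommRingCat.ofHom φ)) := by
    have h1 : Etale Y₀.hom := Y₀.prop.2
    rw [← he] at h1
    rw [← e.inv_hom_id_assoc (Spec.map (CommRingCat.ofHom φ))]
    infer_instance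
  have hpb := isPullback φ g hg hφ het
  let Y : FEt.Cat X := MorphismProperty.Over.mk ⊤ g.fromNormalization hν
  refine ⟨Y, ⟨MorphismProperty.Over.isoMk
    ((show pullback g.fromNormalization (X.fromSpecStalk (genericPoint X)) ≅ Y₀.left from
      hpb.isoPullback.symm ≪≫ e.symm)) ?_⟩⟩
  change (hpb.isoPullback.symm ≪≫ e.symm).hom ≫ Y₀.hom = pullback.snd _ _
  rw [← he]
  simp

end Mono

section Conv

variable {X : Scheme.{u}} [IsIntegral X] (hX : Pi1.IsNormalScheme X) {L : Type u} [Field L]
  (g : Spec (CommRingCat.of L) ⟶ X) [QuasiCompact g] [QuasiSeparated g]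
  {Y : Scheme.{u}} (q : Y ⟶ X) [Etale q] [IsFinite q]

theorem connectedSpace_of_generic {X : Scheme.{u}} [IsIntegral X] {Y : Scheme.{u}} (q : Y ⟶ X)
    [Etale q] (y₀ : Y) (h0 : ∀ y : Y, q y = genericPoint X → y = y₀) : ConnectedSpace Y := by
  have hne : Nonempty Y := ⟨y₀⟩
  have hpre : PreconnectedSpace Y := by
    rw [preconnectedSpace_iff_clopen]
    intro s hs
    by_contra hcon
    push Not at hcon
    obtain ⟨y, hy, h1⟩ := Pi1A.NormalEtale.exists_mem_fiber q s hs.isOpen hcon.1
    obtain ⟨y', hy', h2⟩ := Pi1A.NormalEtale.exists_mem_fiber q sᶜ hs.compl.isOpen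
      (Set.nonempty_compl.2 hcon.2)
    rw [h0 y h1] at hy
    rw [h0 y' h2] at hy'
    exact hy' hy
  exact { toPreconnectedSpace := hpre, toNonempty := hne }

include hX in
/-- A finite etale cover with generic fibre `Spec L` is the normalization of `X` in `L`. -/
theorem exists_iso_of_isPullback (ρ : Spec (CommRingCat.of L) ⟶ Y)
    (φ : X.functionField →+* L)
    (hpb : IsPullback ρ (Spec.map (CommRingCat.ofHom φ)) q (X.fromSpecStalk (genericPoint X)))
    (hgρ : g = ρ ≫ q) : ∃ d : g.normalization ≅ Y, d.hom ≫ q = g.fromNormalization := by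
  have hηpt : ∀ y : Y, q y = genericPoint X → y = ρ (IsLocalRing.closedPoint L) := by
    intro y hy
    obtain ⟨z, hz1, -⟩ := Scheme.exists_preimage_of_isPullback hpb y
      (IsLocalRing.closedPoint X.functionField) (by
        exact hy.trans (X.fromSpecStalk_closedPoint (x := genericPoint X)).symm)
    refine Eq.trans hz1.symm ?_
    exact congrArg ρ.base (Subsingleton.elim (α := PrimeSpectrum L) _ _)
  have hconn : ConnectedSpace Y := connectedSpace_of_generic q _ hηpt
  have hYint : IsIntegral Y := Pi1A.NormalEtale.isIntegral_of_connectedSpace hX q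
  have hYn : Pi1.IsNormalScheme Y := Pi1A.NormalEtale.isDomain_stalk_and_isIntegrallyClosed_stalk hX q
  have hgenY : q (genericPoint Y) = genericPoint X := by
    obtain ⟨t, -, ht⟩ := Pi1A.NormalEtale.exists_mem_fiber q Set.univ isOpen_univ Set.univ_nonempty
    have h1 : q (genericPoint Y) ⤳ genericPoint X := by
      rw [← ht]
      exact (genericPoint_specializes t).map q.continuous
    exact (h1.antisymm (genericPoint_specializes _)).eq
  have hgen : ρ (genericPoint (Spec (CommRingCat.of L))) = genericPoint Y := by
    rw [hηpt _ hgenY]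
    exact congrArg ρ.base (Subsingleton.elim (α := PrimeSpectrum L) _ _)
  have hqc : QuasiCompact ρ := by
    have : QuasiCompact (ρ ≫ q) := by rw [← hgρ]; infer_instance
    exact QuasiCompact.of_comp ρ q
  have hpre : IsPreimmersion ρ :=
    MorphismProperty.of_isPullback (P := @IsPreimmersion) hpb.flip (inferInstance :
      IsPreimmersion (X.fromSpecStalk (genericPoint X)))
  have hbir : IsIso (ρ.stalkMap (genericPoint (Spec (CommRingCat.of L)))) := by
    rw [ConcreteCategory.isIso_iff_bijective]
    refine ⟨?_, ρ.stalkMap_surjective _⟩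
    have h2 : IsField (Y.presheaf.stalk (ρ (genericPoint (Spec (CommRingCat.of L))))) := by
      rw [hgen]; exact Field.toIsField Y.functionField
    let _ := h2.toField
    exact RingHom.injective _
  have hiso : IsIso ρ.fromNormalization :=
    Ega3B.NormalBirational.isIso_fromNormalization (fun y => (hYn y).2) ρ hgen hbir
  let d : g.normalization ⟶ Y := g.normalizationDesc ρ q hgρ
  have hd1 : g.toNormalization ≫ d = ρ := g.toNormalization_normalizationDesc ρ q hgρ
  have hd2 : d ≫ q = g.fromNormalization := g.normalizationDesc_comp ρ q hgρ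
  let c : ρ.normalization ⟶ g.normalization := ρ.normalizationDesc g.toNormalization d hd1.symm
  have hc1 : ρ.toNormalization ≫ c = g.toNormalization :=
    ρ.toNormalization_normalizationDesc g.toNormalization d hd1.symm
  have hc2 : c ≫ d = ρ.fromNormalization := ρ.normalizationDesc_comp g.toNormalization d hd1.symm
  have hinv : ρ ≫ inv ρ.fromNormalization = ρ.toNormalization := by
    rw [IsIso.comp_inv_eq, Scheme.Hom.toNormalization_fromNormalization]
  refine ⟨⟨d, inv ρ.fromNormalization ≫ c, ?_, ?_⟩, hd2⟩
  · refine Scheme.Hom.normalization.hom_ext g _ _ g.fromNormalization ?_ ?_ ?_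
    · rw [← Category.assoc, hd1, ← Category.assoc, hinv, hc1, Category.comp_id]
    · rw [Category.assoc, Category.assoc, ← hd2]
      rw [← Category.assoc c, hc2, IsIso.inv_hom_id_assoc]
    · rw [Category.id_comp]
  · rw [Category.assoc, hc2, IsIso.inv_hom_id]

include hX in
/-- If `Spec L` extends to a finite etale cover of `X` then the normalization is finite etale. -/
theorem prop_of_essImage (φ : X.functionField →+* L)
    (hg : g = Spec.map (CommRingCat.ofHom φ) ≫ X.fromSpecStalk (genericPoint X))
    (Y₀ : FEt.Cat (Spec X.functionField)) (e : Y₀.left ≅ Spec (CommRingCat.of L))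
    (he : e.hom ≫ Spec.map (CommRingCat.ofHom φ) = Y₀.hom)
    (h : (FEt.restrict (X.fromSpecStalk (genericPoint X))).essImage Y₀) :
    Etale g.fromNormalization ∧ IsFinite g.fromNormalization := by
  obtain ⟨Y, ⟨α⟩⟩ := h
  have h1 : Etale Y.hom := Y.prop.2
  have h2 : IsFinite Y.hom := Y.prop.1
  let β : ((FEt.restrict (X.fromSpecStalk (genericPoint X))).obj Y).left ≅ Y₀.left :=
    (MorphismProperty.Over.forget _ _ _ ⋙ Over.forget _).mapIso α
  have hβ : β.hom ≫ Y₀.hom = pullback.snd Y.hom (X.fromSpecStalk (genericPoint X)) :=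
    Over.w α.hom.hom
  let γ : pullback Y.hom (X.fromSpecStalk (genericPoint X)) ≅ Spec (CommRingCat.of L) := β ≪≫ e
  have hγ : γ.hom ≫ Spec.map (CommRingCat.ofHom φ) =
      pullback.snd Y.hom (X.fromSpecStalk (genericPoint X)) := by
    rw [← hβ, ← he]
    exact Category.assoc _ _ _
  let ρ : Spec (CommRingCat.of L) ⟶ Y.left := γ.inv ≫ pullback.fst _ _
  have hpb : IsPullback ρ (Spec.map (CommRingCat.ofHom φ)) Y.hom (X.fromSpecStalk (genericPoint X)) := by
    refine IsPullback.of_iso_pullback ⟨?_⟩ γ.symm rfl ?_
    · simp only [ρ, Category.assoc]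
      rw [pullback.condition, ← hγ, ← Category.assoc, ← Category.assoc, Iso.inv_hom_id,
        Category.id_comp]
    · rw [Iso.symm_hom, Iso.inv_comp_eq, hγ]
  obtain ⟨d, hd⟩ := exists_iso_of_isPullback hX g Y.hom ρ φ hpb (by rw [hg, hpb.w])
  rw [← hd]
  exact ⟨inferInstance, inferInstance⟩

end Conv

end K156.NormCover
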