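import Groth.Agent.Pi1.K156.VdimTwo
import Groth.Agent.S0272
import Groth.Agent.S1142
import Groth.Agent.S0376
import Groth.Agent.S0247
import Groth.Agent.Ega4dB.DepthOpen
import Groth.Agent.Etalg.GoldmanBasic
import Groth.Agent.Localalg.Depth3
import Mathlib.RingTheory.KrullDimension.LocalRing

/-!
# Purity for rings of virtual dimension at least three
-/

set_option autoImplicit false
universe u v

open CategoryTheory CategoryTheory.Limits AlgebraicGeometry TopologicalSpace

namespace K156.VdimThree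

open Groth.Agent IsLocalRing RingTheory.Sequence
open Groth.Agent.Pi1B.CIInduction

/-- Coset prime avoidance, with an ideal: if no member of a finite set of primes contains both `b`
and `K`, then some element of `b + K` lies in none of them. -/
theorem exists_add_notMem {A : Type*} [CommRing A] (S : Finset (Ideal A))
    (hS : ∀ P ∈ S, P.IsPrime) (b : A) (K : Ideal A) (h : ∀ P ∈ S, ¬ (b ∈ P ∧ K ≤ P)) :
    ∃ k ∈ K, ∀ P ∈ S, b + k ∉ P := by
  classical
  set M : Finset (Ideal A) := S.filter (fun P => Maximal (· ∈ S) P) with hM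
  have hMS : ∀ P ∈ M, P ∈ S := fun P hP => (Finset.mem_filter.1 hP).1
  have hMmax : ∀ P ∈ M, Maximal (· ∈ S) P := fun P hP => (Finset.mem_filter.1 hP).2
  have hex : ∀ P ∈ S, ∃ Q ∈ M, P ≤ Q := by
    intro P hP
    obtain ⟨Q, hPQ, hQ⟩ := S.exists_le_maximal hP
    exact ⟨Q, Finset.mem_filter.2 ⟨hQ.1, hQ⟩, hPQ⟩
  obtain ⟨M1, hM1⟩ : ∃ M1 : Finset (Ideal A), ∀ P, P ∈ M1 ↔ P ∈ M ∧ b ∉ P :=
    ⟨M.filter (fun P => b ∉ P), fun P => Finset.mem_filter⟩
  obtain ⟨M2, hM2⟩ : ∃ M2 : Finset (Ideal A), ∀ P, P ∈ M2 ↔ P ∈ M ∧ b ∈ P :=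
    ⟨M.filter (fun P => b ∈ P), fun P => Finset.mem_filter⟩
  obtain ⟨L, hL⟩ : ∃ L : Ideal A, L = M1.inf id := ⟨_, rfl⟩
  have hav : ∃ k ∈ K, k ∈ L ∧ ∀ Q ∈ M2, k ∉ Q := by
    by_contra hcon
    push Not at hcon
    have hsub : ((K ⊓ L : Ideal A) : Set A) ⊆
      ⋃ i ∈ (↑M2 : Set (Ideal A)), ((id i : Ideal A) : Set A) := by
      intro k hk
      obtain ⟨Q, hQ, hkQ⟩ := hcon k hk.1 hk.2
      exact Set.mem_iUnion₂.2 ⟨Q, hQ, hkQ⟩
    obtain ⟨P', hP', hle⟩ := (Ideal.subset_union_prime (f := (id : Ideal A → Ideal A)) (s := M2)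
      (⊥ : Ideal A) (⊥ : Ideal A)
      (fun i hi _ _ => hS i (hMS i ((hM2 i).1 hi).1))).1 hsub
    have hP'M := ((hM2 P').1 hP').1
    have hbP' := ((hM2 P').1 hP').2
    rcases (hS P' (hMS P' hP'M)).inf_le.1 hle with h1 | h1
    · exact h P' (hMS P' hP'M) ⟨hbP', h1⟩
    rw [hL] at h1
    obtain ⟨P, hP, hPP'⟩ := ((hS P' (hMS P' hP'M)).inf_le').1 h1
    have hPM := ((hM1 P).1 hP).1
    have hbP := ((hM1 P).1 hP).2
    have : P' ≤ P := (hMmax P hPM).2 (hMS P' hP'M) hPP'
    exact hbP (this hbP')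
  obtain ⟨k, hk1, hk2, hk3⟩ := hav
  refine ⟨k, hk1, fun P hP hmem => ?_⟩
  obtain ⟨Q, hQ, hPQ⟩ := hex P hP
  have hmemQ : b + k ∈ Q := hPQ hmem
  by_cases hb : b ∈ Q
  · exact hk3 Q ((hM2 Q).2 ⟨hQ, hb⟩) ((Ideal.add_mem_iff_right Q hb).1 hmemQ)
  · have hkQ : k ∈ Q := by
      have hle := Finset.inf_le (f := (id : Ideal A → Ideal A)) ((hM1 Q).2 ⟨hQ, hb⟩)
      rw [hL] at hk2
      exact hle hk2
    exact hb ((Ideal.add_mem_iff_left Q hkQ).1 hmemQ)

/-- Cutting a presentation by a regular element. -/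
theorem pres_quotient {n : ℕ} {B C : Type u} [CommRing B] [CommRing C] [Nontrivial C]
    (h : Pres n B) (f : B) (hreg : IsSMulRegular B f) (ψ : B →+* C)
    (hψ : Function.Surjective ψ) (hker : RingHom.ker ψ = Ideal.span {f}) :
    Pres (n + 1) C := by
  obtain ⟨S, _, _, rs, φ, hn, hφ, hkφ, hrs⟩ := h
  obtain ⟨g, rfl⟩ := hφ f
  refine ⟨S, inferInstance, inferInstance, rs ++ [g], ψ.comp φ, by simp [hn], hψ.comp hφ, ?_, ?_, ?_⟩
  · rw [Ideal.ofList_append, Ideal.ofList_singleton, ← hkφ]
    ext x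
    rw [RingHom.mem_ker, RingHom.comp_apply, ← RingHom.mem_ker, hker, Ideal.mem_span_singleton']
    constructor
    · rintro ⟨a, ha⟩
      obtain ⟨a, rfl⟩ := hφ a
      rw [← map_mul] at ha
      have h1 : x - a * g ∈ RingHom.ker φ := by
        rw [RingHom.mem_ker, map_sub, ha, sub_self]
      have h2 : x = (x - a * g) + a * g := by ring
      rw [h2]
      exact Ideal.add_mem _ (Ideal.mem_sup_left h1)
        (Ideal.mem_sup_right (Ideal.mul_mem_left _ _ (Ideal.mem_span_singleton_self g)))
    · intro hx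
      obtain ⟨y, hy, z, hz, rfl⟩ := Submodule.mem_sup.1 hx
      obtain ⟨a, rfl⟩ := Ideal.mem_span_singleton'.1 hz
      refine ⟨φ a, ?_⟩
      rw [map_add, (RingHom.mem_ker).1 hy, zero_add, map_mul]
  · rw [isWeaklyRegular_append_iff]
    refine ⟨hrs.toIsWeaklyRegular, ?_⟩
    rw [isWeaklyRegular_singleton_iff]
    intro x y hxy
    obtain ⟨x, rfl⟩ := Submodule.Quotient.mk_surjective _ x
    obtain ⟨y, rfl⟩ := Submodule.Quotient.mk_surjective _ y
    have h0 : (Ideal.ofList rs • ⊤ : Submodule S S) = RingHom.ker φ := by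
      rw [hkφ]; simp
    change g • Submodule.Quotient.mk x = g • Submodule.Quotient.mk y at hxy
    rw [← Submodule.Quotient.mk_smul, ← Submodule.Quotient.mk_smul, Submodule.Quotient.eq, h0] at hxy
    rw [Submodule.Quotient.eq, h0]
    change φ (x - y) = 0
    change φ (g • x - g • y) = 0 at hxy
    rw [← smul_sub, smul_eq_mul, map_mul] at hxy
    exact hreg (by simpa using hxy)
  · intro htop
    have h1 : Ideal.ofList (rs ++ [g]) = ⊤ := by simpa using htop.symm
    have h2 : (1 : S) ∈ Ideal.ofList rs ⊔ Ideal.span {g} := by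
      rw [← Ideal.ofList_singleton, ← Ideal.ofList_append, h1]; trivial
    obtain ⟨y, hy, z, hz, hyz⟩ := Submodule.mem_sup.1 h2
    obtain ⟨a, rfl⟩ := Ideal.mem_span_singleton'.1 hz
    have h3 : ψ (φ 1) = 0 := by
      rw [← hkφ] at hy
      rw [← hyz, map_add, (RingHom.mem_ker).1 hy, zero_add, ← RingHom.mem_ker, hker, map_mul]
      exact Ideal.mul_mem_left _ _ (Ideal.mem_span_singleton_self _)
    rw [map_one, map_one] at h3
    exact one_ne_zero h3

/-- `f` is regular on `A_p` if it avoids the associated primes of `A` contained in `p`. -/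
theorem isSMulRegular_atPrime {A : Type u} [CommRing A] [IsNoetherianRing A] (p : Ideal A) [p.IsPrime]
    (f : A) (h : ∀ Q ∈ associatedPrimes A A, Q ≤ p → f ∉ Q) :
    IsSMulRegular (Localization.AtPrime p) (algebraMap A (Localization.AtPrime p) f) := by
  have h1 := (Groth.Agent.Ega4dB.DepthOpen.isSMulRegular_localized_iff (M := A) (q := p) f).2 h
  have h2 : IsSMulRegular (LocalizedModule p.primeCompl A) (algebraMap A (Localization.AtPrime p) f) := by
    intro a b hab
    apply h1
    simpa only [algebraMap_smul] using hab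
  rw [Groth.Agent.Localalg.Depth3.isSMulRegular_localized_iff] at h2
  rw [isSMulRegular_iff_right_eq_zero_of_smul]
  intro y hy
  obtain ⟨a, s, rfl⟩ := IsLocalization.exists_mk'_eq p.primeCompl y
  rw [smul_eq_mul, ← IsLocalization.mk'_one (M := p.primeCompl), ← IsLocalization.mk'_mul,
    IsLocalization.mk'_eq_zero_iff] at hy
  obtain ⟨u, hu⟩ := hy
  obtain ⟨t, ht, ht'⟩ := h2 (u * a) (by
    rw [smul_eq_mul]; rw [← hu]; ring)
  rw [IsLocalization.mk'_eq_zero_iff]
  refine ⟨⟨t, ht⟩ * u, ?_⟩
  rw [Submonoid.coe_mul]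
  rw [smul_eq_mul] at ht'
  rw [← ht']; ring

/-- A point `p` of a Noetherian local ring closed in `D(f)` has one-dimensional closure. -/
theorem dim_quotient_eq_one {A : Type u} [CommRing A] [IsNoetherianRing A] [IsLocalRing A]
    (f : A) (hf : f ∈ maximalIdeal A) (P : Ideal (Localization.Away f)) (hP : P.IsMaximal) :
    f ∉ P.comap (algebraMap A (Localization.Away f)) ∧
      ringKrullDim (A ⧸ P.comap (algebraMap A (Localization.Away f))) = 1 := by
  have hPp : P.IsPrime := hP.isPrime
  set p := P.comap (algebraMap A (Localization.Away f)) with hp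
  have hfp : f ∉ p := by
    intro hfq
    exact hPp.ne_top (Ideal.eq_top_of_isUnit_mem _ hfq (IsLocalization.Away.algebraMap_isUnit f))
  refine ⟨hfp, ?_⟩
  have hpp : p.IsPrime := inferInstance
  have hmapp : p.map (algebraMap A (Localization.Away f)) = P :=
    IsLocalization.map_under (Submonoid.powers f) _ P
  have H : ∀ q : Ideal A, q.IsPrime → p < q → f ∈ q := by
    intro q hq hpq
    by_contra hfq
    have hdisj : Disjoint (Submonoid.powers f : Set A) (q : Set A) := by
      rw [Set.disjoint_left]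
      rintro _ ⟨n, rfl⟩ hn
      exact hfq (hq.mem_of_pow_mem n hn)
    have hqmap : (q.map (algebraMap A (Localization.Away f))).IsPrime :=
      IsLocalization.isPrime_of_isPrime_disjoint (Submonoid.powers f) _ q hq hdisj
    have hcomap : (q.map (algebraMap A (Localization.Away f))).comap
        (algebraMap A (Localization.Away f)) = q :=
      IsLocalization.under_map_of_isPrime_disjoint (Submonoid.powers f) _ hq hdisj
    have h1 : P ≤ q.map (algebraMap A (Localization.Away f)) := by
      rw [← hmapp]; exact Ideal.map_mono hpq.le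
    have h2 := hP.eq_of_le hqmap.ne_top h1
    apply hpq.ne
    rw [hp, h2, hcomap]
  have hmax := Groth.Agent.Etalg.GoldmanBasic.isMaximal_of_forall_lt p hpp f hfp H
  have hnt : Nontrivial (A ⧸ p) := Ideal.Quotient.nontrivial_iff.2 hpp.ne_top
  have hloc : IsLocalRing (A ⧸ p) := IsLocalRing.of_surjective' _ (Ideal.Quotient.mk_surjective (I := p))
  have hpm : p ≠ maximalIdeal A := fun h => hfp (h ▸ hf)
  rw [ringKrullDim_eq_one_iff_of_isLocalRing_isDomain]
  constructor
  · intro hfld
    exact hpm (IsLocalRing.eq_maximalIdeal ((Ideal.Quotient.maximal_ideal_iff_isField_quotient p).2 hfld))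
  · intro x hx
    obtain ⟨x, rfl⟩ := Ideal.Quotient.mk_surjective x
    rw [Ideal.radical_eq_sInf]
    refine le_sInf fun Q hQ => ?_
    have hQp := hQ.2
    have h1 : p ≤ Q.comap (Ideal.Quotient.mk p) := by
      intro z hz
      rw [Ideal.mem_comap, Ideal.Quotient.eq_zero_iff_mem.2 hz]
      exact Q.zero_mem
    have h2 : p < Q.comap (Ideal.Quotient.mk p) := by
      refine lt_of_le_of_ne h1 (fun h => hx ?_)
      rw [Ideal.Quotient.eq_zero_iff_mem, h]
      exact hQ.1 (Ideal.mem_span_singleton_self _)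
    have h3 := hmax _ (hQp.comap _) h2
    have h4 := IsLocalRing.eq_maximalIdeal h3
    have h5 : (maximalIdeal A).map (Ideal.Quotient.mk p) = maximalIdeal (A ⧸ p) :=
      IsLocalRing.map_maximalIdeal_of_surjective _ Ideal.Quotient.mk_surjective
    rw [← h5, ← h4, Ideal.map_comap_of_surjective _ Ideal.Quotient.mk_surjective]

/-- A ring with a presentation is a complete intersection. -/
theorem isCompleteIntersection_of_pres {n : ℕ} {A : Type u} [CommRing A] [IsLocalRing A]
    [IsNoetherianRing A] (h : Pres n A) : _root_.Pi1.IsCompleteIntersection A := by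
  obtain ⟨B, _, _, rs, φ, hn, hφ, hker, hreg⟩ := h.cpl
  refine ⟨B, inferInstance, inferInstance, rs, mem_maximalIdeal_of_isRegular hreg, hreg, ?_⟩
  refine ⟨((Ideal.quotEquivOfEq ?_).trans (RingHom.quotientKerEquivOfSurjective hφ)).symm⟩
  rw [hker]

/-- The inductive data. -/
def Good (i D : ℕ) (A : Type u) [CommRing A] (J : Ideal A) : Prop :=
  ∀ (p : Ideal A) [p.IsPrime], ¬ J ≤ p → Pres i (Localization.AtPrime p) ∧
    ringKrullDim (Localization.AtPrime p) + ringKrullDim (A ⧸ p) = D

/-- Kernel of the localization of a surjection. -/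
theorem ker_localRingHom {S T : Type u} [CommRing S] [CommRing T] (f : S →+* T)
    (hf : Function.Surjective f) (r : Ideal T) [r.IsPrime] (r' : Ideal S) [r'.IsPrime]
    (hr : r' = r.comap f) : RingHom.ker (Localization.localRingHom r' r f hr) =
      (RingHom.ker f).map (algebraMap S (Localization.AtPrime r')) := by
  rw [← Groth.Agent.Ega4A.QuotLoc.ker_eq f hf r r' hr (RingHom.ker f) le_rfl]
  have h1 : ((RingHom.ker f).map f) = ⊥ := by
    rw [eq_bot_iff, Ideal.map_le_iff_le_comap]
    intro x hx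
    exact hx
  rw [h1, Ideal.map_bot]
  ext x
  rw [RingHom.mem_ker, RingHom.mem_ker, RingHom.comp_apply, Ideal.Quotient.eq_zero_iff_mem,
    Ideal.mem_bot]

theorem Good.step {i D : ℕ} {A : Type u} [CommRing A] [IsNoetherianRing A] {J : Ideal A}
    (h : Good i (D + 1) A J) (f : A) (K : Ideal A) (hJ : J = Ideal.span {f} ⊔ K)
    (hf : ∀ Q ∈ associatedPrimes A A, ¬ J ≤ Q → f ∉ Q) :
    Good (i + 1) D (A ⧸ Ideal.span {f}) (K.map (Ideal.Quotient.mk (Ideal.span {f}))) := by
  intro p' _ hp'
  let q : A →+* A ⧸ Ideal.span {f} := Ideal.Quotient.mk (Ideal.span {f})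
  have hq : Function.Surjective q := Ideal.Quotient.mk_surjective
  let p : Ideal A := p'.comap q
  have hp : p.IsPrime := inferInstance
  have hfp : f ∈ p := by
    change q f ∈ p'
    rw [show q f = 0 from Ideal.Quotient.eq_zero_iff_mem.2 (Ideal.mem_span_singleton_self f)]
    exact p'.zero_mem
  have hJp : ¬ J ≤ p := by
    intro hJp
    apply hp'
    rw [Ideal.map_le_iff_le_comap]
    exact le_trans (by rw [hJ]; exact le_sup_right) hJp
  obtain ⟨h1, h2⟩ := h p hJp
  have hreg : IsSMulRegular (Localization.AtPrime p) (algebraMap A (Localization.AtPrime p) f) :=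
    isSMulRegular_atPrime p f (fun Q hQ hQp => hf Q hQ (fun hJQ => hJp (hJQ.trans hQp)))
  let ψ := Localization.localRingHom p p' q rfl
  have hψ : Function.Surjective ψ := Groth.Agent.Ega4A.QuotLoc.localRingHom_surjective q hq p' p rfl
  have hker : RingHom.ker ψ = Ideal.span {algebraMap A (Localization.AtPrime p) f} := by
    have := ker_localRingHom q hq p' p rfl
    rw [this, Ideal.mk_ker, Ideal.map_span, Set.image_singleton]
  refine ⟨pres_quotient h1 _ hreg ψ hψ hker, ?_⟩
  have hmem : algebraMap A (Localization.AtPrime p) f ∈ maximalIdeal (Localization.AtPrime p) := by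
    rw [← Localization.AtPrime.map_eq_maximalIdeal]
    exact Ideal.mem_map_of_mem _ hfp
  have h3 : ringKrullDim (Localization.AtPrime p') + 1 = ringKrullDim (Localization.AtPrime p) := by
    rw [← ringKrullDim_quotient_span_singleton_succ_eq_ringKrullDim hreg hmem]
    rw [ringKrullDim_eq_of_ringEquiv ((Ideal.quotEquivOfEq hker.symm).trans
      (RingHom.quotientKerEquivOfSurjective hψ))]
  have h4 : ringKrullDim ((A ⧸ Ideal.span {f}) ⧸ p') = ringKrullDim (A ⧸ p) := by
    let ρ : A →+* ((A ⧸ Ideal.span {f}) ⧸ p') := (Ideal.Quotient.mk p').comp q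
    have hρ : Function.Surjective ρ := Ideal.Quotient.mk_surjective.comp hq
    have hkρ : RingHom.ker ρ = p := by
      ext x
      rw [RingHom.mem_ker]
      change Ideal.Quotient.mk p' (q x) = 0 ↔ _
      rw [Ideal.Quotient.eq_zero_iff_mem]
      rfl
    exact (ringKrullDim_eq_of_ringEquiv ((Ideal.quotEquivOfEq hkρ.symm).trans
      (RingHom.quotientKerEquivOfSurjective hρ))).symm
  rw [h4]
  rw [← h3, add_right_comm] at h2
  push_cast at h2
  have h5 : ∀ a : WithBot ℕ∞, a + 1 = (D : WithBot ℕ∞) + 1 → a = D := by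
    intro a ha
    apply le_antisymm
    · rw [← ENat.WithBot.add_le_add_one_right_iff, ha]
    · rw [← ENat.WithBot.add_le_add_one_right_iff, ha]
  exact h5 _ h2

theorem exists_generator {A : Type u} [CommRing A] [IsNoetherianRing A] (b : A) (K : Ideal A) :
    ∃ κ ∈ K, ∀ Q ∈ associatedPrimes A A, ¬ (Ideal.span {b} ⊔ K ≤ Q) → b + κ ∉ Q := by
  classical
  have hfin : (associatedPrimes A A).Finite := associatedPrimes.finite A A
  obtain ⟨κ, hκ, h⟩ := exists_add_notMem
    (hfin.toFinset.filter (fun Q => ¬ (Ideal.span {b} ⊔ K ≤ Q)))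
    (fun P hP => ((hfin.mem_toFinset).1 (Finset.mem_filter.1 hP).1).isPrime) b K
    (fun P hP hbK => (Finset.mem_filter.1 hP).2
      (sup_le ((Ideal.span_singleton_le_iff_mem _).2 hbK.1) hbK.2))
  exact ⟨κ, hκ, fun Q hQ hJ => h Q (Finset.mem_filter.2 ⟨(hfin.mem_toFinset).2 hQ, hJ⟩)⟩

theorem range_fin_succ {A : Type u} [CommRing A] {k : ℕ} (g : Fin (k + 1) → A) :
    Ideal.span (Set.range g) = Ideal.span {g 0} ⊔ Ideal.span (Set.range (fun j : Fin k => g j.succ)) := by
  rw [← Ideal.span_union]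
  congr 1
  ext x
  constructor
  · rintro ⟨j, rfl⟩
    rcases Fin.eq_zero_or_eq_succ j with rfl | ⟨j, rfl⟩
    · exact Or.inl rfl
    · exact Or.inr ⟨j, rfl⟩
  · rintro (rfl | ⟨j, rfl⟩)
    · exact ⟨_, rfl⟩
    · exact ⟨_, rfl⟩

theorem purityHolds_atMaximal {i D : ℕ} {A : Type u} [CommRing A] [IsNoetherianRing A] [IsLocalRing A]
    {J : Ideal A} (hG : Good i D A J) (hD : 4 ≤ D) (f : A) (hf : f ∈ maximalIdeal A) (hfJ : f ∈ J)
    (P : Ideal (Localization.Away f)) (hP : P.IsMaximal) :
    FEt.PurityHolds (Localization.AtPrime P) := by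
  obtain ⟨h1, h2⟩ := dim_quotient_eq_one f hf P hP
  obtain ⟨h3, h4⟩ := hG (P.comap (algebraMap A (Localization.Away f))) (fun h => h1 (h hfJ))
  rw [h2] at h4
  have h5 : (3 : WithBot ℕ∞) ≤
      ringKrullDim (Localization.AtPrime (P.comap (algebraMap A (Localization.Away f)))) := by
    rw [← ENat.WithBot.add_le_add_one_right_iff, h4]
    exact_mod_cast hD
  have h6 := S0272.result _ (isCompleteIntersection_of_pres h3) h5
  have e := IsLocalization.localizationLocalizationAtPrimeIsoLocalization (Submonoid.powers f) P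
  exact Groth.Agent.Pi1B.PuncturedIso.purityHolds_of_ringEquiv _ _ e.toRingEquiv h6

theorem purityHolds_quotient (k : ℕ) : ∀ (i D : ℕ) (A : Type u) [CommRing A] [IsLocalRing A]
    [IsNoetherianRing A] [IsAdicComplete (maximalIdeal A) A] (g : Fin k → A)
    (_ : ∀ j, g j ∈ maximalIdeal A) (_ : Good i D A (Ideal.span (Set.range g))) (_ : k + 3 ≤ D)
    (_ : FEt.PurityHolds A) (B : Type u) [CommRing B] [IsLocalRing B] (ψ : A →+* B)
    (_ : Function.Surjective ψ) (_ : RingHom.ker ψ = Ideal.span (Set.range g)),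
    FEt.PurityHolds B := by
  induction k with
  | zero =>
    intro i D A _ _ _ _ g _ _ _ hA B _ _ ψ hψ hker
    have hinj : Function.Injective ψ := by
      rw [RingHom.injective_iff_ker_eq_bot, hker, Ideal.span_eq_bot]
      rintro x ⟨j, rfl⟩
      exact j.elim0
    exact Groth.Agent.Pi1B.PuncturedIso.purityHolds_of_ringEquiv _ _
      (RingEquiv.ofBijective ψ ⟨hinj, hψ⟩) hA
  | succ k ih =>
    intro i D A _ _ _ _ g hg hG hD hA B _ _ ψ hψ hker
    set K : Ideal A := Ideal.span (Set.range (fun j : Fin k => g j.succ)) with hK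
    have hJ : Ideal.span (Set.range g) = Ideal.span {g 0} ⊔ K := range_fin_succ g
    obtain ⟨κ, hκ, hav⟩ := exists_generator (g 0) K
    rw [← hJ] at hav
    have hKm : K ≤ maximalIdeal A := by
      rw [hK, Ideal.span_le]
      rintro _ ⟨j, rfl⟩
      exact hg _
    have hf : g 0 + κ ∈ maximalIdeal A := Ideal.add_mem _ (hg 0) (hKm hκ)
    have hJ' : Ideal.span (Set.range g) = Ideal.span {g 0 + κ} ⊔ K := by
      rw [hJ]
      apply le_antisymm
      · refine sup_le ((Ideal.span_singleton_le_iff_mem _).2 ?_) le_sup_right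
        have h0 : (g 0 + κ) - κ ∈ Ideal.span {g 0 + κ} ⊔ K :=
          Ideal.sub_mem _ (Ideal.mem_sup_left (Ideal.mem_span_singleton_self _))
            (Ideal.mem_sup_right hκ)
        rwa [add_sub_cancel_right] at h0
      · refine sup_le ((Ideal.span_singleton_le_iff_mem _).2 ?_) le_sup_right
        exact Ideal.add_mem _ (Ideal.mem_sup_left (Ideal.mem_span_singleton_self _))
          (Ideal.mem_sup_right hκ)
    obtain ⟨D, rfl⟩ : ∃ D', D = D' + 1 := ⟨D - 1, by omega⟩
    have hfJ : g 0 + κ ∈ Ideal.span (Set.range g) := by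
      rw [hJ']
      exact Ideal.mem_sup_left (Ideal.mem_span_singleton_self _)
    have hstep := hG.step (g 0 + κ) K hJ' hav
    have hadic : IsAdicComplete (Ideal.span {g 0 + κ}) A :=
      Groth.Agent.CalgA.AdicLe.isAdicComplete_of_le
        ((Ideal.span_singleton_le_iff_mem _).mpr hf) (Submodule.fg_span_singleton _)
    have hne : Ideal.span {g 0 + κ} ≠ ⊤ := by
      intro h
      have : (⊤ : Ideal A) ≤ maximalIdeal A := by
        rw [← h]; exact (Ideal.span_singleton_le_iff_mem _).2 hf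
      exact (maximalIdeal.isMaximal A).ne_top (top_le_iff.1 this)
    have hnt : Nontrivial (A ⧸ Ideal.span {g 0 + κ}) := Ideal.Quotient.nontrivial_iff.2 hne
    have hloc : IsLocalRing (A ⧸ Ideal.span {g 0 + κ}) :=
      IsLocalRing.of_surjective' _ (Ideal.Quotient.mk_surjective (I := Ideal.span {g 0 + κ}))
    have hcpl : IsAdicComplete (maximalIdeal (A ⧸ Ideal.span {g 0 + κ})) (A ⧸ Ideal.span {g 0 + κ}) :=
      Groth.Agent.Ega41.LiftKill.isAdicComplete_quotient A _
    have hA' : FEt.PurityHolds (A ⧸ Ideal.span {g 0 + κ}) := by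
      refine S1142.result A (g 0 + κ) hf (S0376.result A) (Or.inr ?_) ?_ hA
      · intro p _ hfp _
        obtain ⟨h1, h2⟩ := hG p (fun h => hfp (h hfJ))
        have hcm := h1.isCM
        have hdep : ringKrullDim (Localization.AtPrime p) =
            ((LocCoh.depth (Localization.AtPrime p) (Localization.AtPrime p) : ℕ∞) : WithBot ℕ∞) := by
          rw [← hcm.supportDim_eq_depth, Module.supportDim_self_eq_ringKrullDim]
        rw [← hdep, h2]
        have : 3 < D + 1 := by omega
        exact_mod_cast this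
      · exact fun P hP => purityHolds_atMaximal hG (by omega) _ hf hfJ P hP
    have hker0 : ∀ x ∈ Ideal.span {g 0 + κ}, ψ x = 0 := by
      intro x hx
      rw [← RingHom.mem_ker, hker, hJ']
      exact Ideal.mem_sup_left hx
    refine ih (i + 1) D (A ⧸ Ideal.span {g 0 + κ})
      (fun j => Ideal.Quotient.mk _ (g j.succ)) (fun j => ?_) ?_ (by omega) hA' B
      (Ideal.Quotient.lift _ ψ hker0) (Ideal.Quotient.lift_surjective_of_surjective _ _ hψ) ?_
    · have h1 : (maximalIdeal A).map (Ideal.Quotient.mk (Ideal.span {g 0 + κ})) =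
        maximalIdeal (A ⧸ Ideal.span {g 0 + κ}) :=
        IsLocalRing.map_maximalIdeal_of_surjective _ Ideal.Quotient.mk_surjective
      rw [← h1]
      exact Ideal.mem_map_of_mem _ (hg _)
    · rw [hK, Ideal.map_span, ← Set.range_comp] at hstep
      exact hstep
    · have h1 : Ideal.span (Set.range fun j : Fin k =>
          Ideal.Quotient.mk (Ideal.span {g 0 + κ}) (g j.succ)) =
          K.map (Ideal.Quotient.mk (Ideal.span {g 0 + κ})) := by
        rw [hK, Ideal.map_span, ← Set.range_comp]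
        rfl
      rw [h1]
      ext x
      obtain ⟨x, rfl⟩ := Ideal.Quotient.mk_surjective x
      rw [RingHom.mem_ker, Ideal.Quotient.lift_mk, ← RingHom.mem_ker, hker, hJ',
        Ideal.mem_map_iff_of_surjective _ Ideal.Quotient.mk_surjective]
      constructor
      · intro hx
        obtain ⟨y, hy, z, hz, rfl⟩ := Submodule.mem_sup.1 hx
        refine ⟨z, hz, ?_⟩
        rw [map_add, (Ideal.Quotient.eq_zero_iff_mem).2 hy, zero_add]
      · rintro ⟨z, hz, hzx⟩
        rw [Ideal.Quotient.eq] at hzx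
        have : x = -(z - x) + z := by ring
        rw [this]
        exact Ideal.add_mem _ (Ideal.mem_sup_left (neg_mem hzx)) (Ideal.mem_sup_right hz)

theorem purityHolds_of_vdim (S : Type u) [CommRing S] [IsRegularLocalRing S]
    [IsAdicComplete (IsLocalRing.maximalIdeal S) S]
    (d : ℕ) (hd : ringKrullDim S = d) (k : ℕ) (g : Fin k → S) (hg : ∀ j, g j ∈ maximalIdeal S)
    (hk : k + 3 ≤ d) (B : Type u) [CommRing B] [IsLocalRing B] (ψ : S →+* B)
    (hψ : Function.Surjective ψ) (hker : RingHom.ker ψ = Ideal.span (Set.range g)) :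
    FEt.PurityHolds B := by
  have hpres : Pres 0 S :=
    ⟨S, inferInstance, inferInstance, [], RingHom.id S, rfl, Function.surjective_id, by
      rw [Ideal.ofList_nil]
      exact (RingHom.injective_iff_ker_eq_bot _).1 Function.injective_id, ⟨by simp, by
        intro h
        rw [Ideal.ofList_nil, Submodule.bot_smul] at h
        exact (bot_ne_top (α := Ideal S)) h.symm⟩⟩
  refine purityHolds_quotient k 0 d S g hg ?_ hk (S0247.result S ?_) B ψ hψ hker
  · intro p _ _
    exact ⟨hpres.localization p, by rw [hpres.height_add p, hd]⟩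
  · rw [hd]
    have : 2 ≤ d := by omega
    exact_mod_cast this

theorem isEquivalence (A : Type u) [CommRing A] [IsNoetherianRing A] [IsLocalRing A]
    (S : Type u) [CommRing S] [IsRegularLocalRing S] [IsAdicComplete (IsLocalRing.maximalIdeal S) S]
    (d : ℕ) (hd : ringKrullDim S = d) (s : Finset S) (hs : s.card + 3 ≤ d)
    (e : AdicCompletion (IsLocalRing.maximalIdeal A) A ≃+* S ⧸ Ideal.span (s : Set S)) :
    (FEt.restrict (FEt.puncturedSpec A).ι).IsEquivalence := by
  obtain ⟨⟨h1, h2⟩, -⟩ := K156.VdimTwo.ff_and_connected A S d hd s (by omega) e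
  have h3 : FEt.PurityHolds A := by
    apply S0272.purity_of_completion A
    obtain ⟨f, hf⟩ := K156.VdimTwo.exists_fin_range s
    rw [← hf] at e
    have hloc : IsLocalRing (S ⧸ Ideal.span (Set.range f)) := K156.VdimTwo.isLocalRing_of_equiv A e
    have hne : Ideal.span (Set.range f) ≠ ⊤ := Ideal.Quotient.nontrivial_iff.mp inferInstance
    have hmem : ∀ i, f i ∈ maximalIdeal S := fun i =>
      le_maximalIdeal hne (Ideal.subset_span ⟨i, rfl⟩)
    have h4 := purityHolds_of_vdim S d hd s.card f hmem hs (S ⧸ Ideal.span (Set.range f))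
      (Ideal.Quotient.mk _) Ideal.Quotient.mk_surjective Ideal.mk_ker
    exact Groth.Agent.Pi1B.PuncturedIso.purityHolds_of_ringEquiv _ _ e.symm h4
  have h4 : (FEt.restrict (FEt.puncturedSpec A).ι).EssSurj := h3
  exact { }

end K156.VdimThree
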