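import Groth.Agent.Pi1.K156.PunctFF
import Groth.Agent.S0262
import Mathlib.RingTheory.AdicCompletion.LocalRing

/-!
# Full faithfulness for rings of virtual dimension at least two
-/

set_option autoImplicit false
universe u v

open CategoryTheory CategoryTheory.Limits AlgebraicGeometry TopologicalSpace

namespace K156.VdimTwo

open Groth.Agent K156.PunctFF IsLocalRing

section Alg

variable (A : Type u) [CommRing A] [IsNoetherianRing A] [IsLocalRing A]
  {B : Type u} [CommRing B] (e : AdicCompletion (maximalIdeal A) A ≃+* B)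

/-- The composite `A → Â ≃ B`. -/
noncomputable def toB : A →+* B :=
  e.toRingHom.comp (algebraMap A (AdicCompletion (maximalIdeal A) A))

include e in
theorem isLocalRing_of_equiv : IsLocalRing B := e.isLocalRing

theorem maximalIdeal_map_equiv [IsLocalRing B] : maximalIdeal B =
    (maximalIdeal (AdicCompletion (maximalIdeal A) A)).map e.toRingHom := by
  have h1 := Ideal.map_eq_top_or_isMaximal_of_surjective e.toRingHom e.surjective
    (maximalIdeal.isMaximal (AdicCompletion (maximalIdeal A) A))
  rcases h1 with h1 | h1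
  · exfalso
    have h2 : (⊤ : Ideal B).comap e.toRingHom ≤ maximalIdeal (AdicCompletion (maximalIdeal A) A) := by
      rw [← h1, Ideal.comap_map_of_bijective e.toRingHom e.bijective]
    exact (maximalIdeal.isMaximal _).ne_top (top_le_iff.mp (by rw [Ideal.comap_top] at h2; exact h2))
  · exact (IsLocalRing.eq_maximalIdeal h1).symm

theorem toB_map [IsLocalRing B] : maximalIdeal B ≤ (maximalIdeal A).map (toB A e) := by
  rw [maximalIdeal_map_equiv A e, AdicCompletion.maximalIdeal_eq_map, Ideal.map_map]
  rfl

theorem toB_isLocalHom [IsLocalRing B] : IsLocalHom (toB A e) := by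
  have : IsLocalHom (algebraMap A (AdicCompletion (maximalIdeal A) A)) := inferInstance
  have h2 : IsLocalHom e.toRingHom := ⟨fun a ha => by
    have := ha.map e.symm.toRingHom
    simpa using this⟩
  exact RingHom.isLocalHom_comp _ _

theorem toB_faithfullyFlat : (toB A e).FaithfullyFlat :=
  RingHom.FaithfullyFlat.stableUnderComposition _ _ (S0262.faithfullyFlat A)
    (RingHom.FaithfullyFlat.of_bijective e.bijective)

theorem toB_res [IsLocalRing B] (x : B) : ∃ a : A, x - toB A e a ∈ maximalIdeal B := by
  obtain ⟨y, rfl⟩ := e.surjective x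
  obtain ⟨a, ha⟩ := S0262.dense A (maximalIdeal A) 1 y
  refine ⟨a, ?_⟩
  rw [pow_one] at ha
  rw [maximalIdeal_map_equiv A e, AdicCompletion.maximalIdeal_eq_map]
  have h1 := Ideal.mem_map_of_mem e.toRingHom ha
  rw [map_sub] at h1
  exact h1

end Alg

/-- Enumerating a finset. -/
theorem exists_fin_range {S : Type u} (s : Finset S) : ∃ f : Fin s.card → S, Set.range f = (s : Set S) := by
  refine ⟨fun i => (s.equivFin.symm i : S), ?_⟩
  ext x
  constructor
  · rintro ⟨i, rfl⟩
    exact (s.equivFin.symm i).2
  · intro hx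
    exact ⟨s.equivFin ⟨x, hx⟩, by simp⟩

theorem ff_and_connected (A : Type u) [CommRing A] [IsNoetherianRing A] [IsLocalRing A]
    (S : Type u) [CommRing S] [IsRegularLocalRing S] [IsAdicComplete (IsLocalRing.maximalIdeal S) S]
    (d : ℕ) (hd : ringKrullDim S = d) (s : Finset S) (hs : s.card + 2 ≤ d)
    (e : AdicCompletion (IsLocalRing.maximalIdeal A) A ≃+* S ⧸ Ideal.span (s : Set S)) :
    FF (FEt.restrict (FEt.puncturedSpec A).ι) ∧ ConnectedSpace ↥(FEt.puncturedSpec A : Scheme.{u}) := by
  obtain ⟨f, hf⟩ := exists_fin_range s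
  rw [← hf] at e
  have hloc : IsLocalRing (S ⧸ Ideal.span (Set.range f)) := isLocalRing_of_equiv A e
  have hne : Ideal.span (Set.range f) ≠ ⊤ := Ideal.Quotient.nontrivial_iff.mp inferInstance
  have hmem : ∀ i, f i ∈ maximalIdeal S := fun i =>
    le_maximalIdeal hne (Ideal.subset_span ⟨i, rfl⟩)
  have : IsDomain S := CurvesC.RegNormal.isDomain S
  have : IsIntegrallyClosed S := CurvesC.RegNormal.isIntegrallyClosed S
  obtain ⟨h1, h2⟩ := ff_punctured_quotient S s.card
    (by rw [hd]; exact_mod_cast hs) f hmem
  have := toB_isLocalHom A e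
  exact ⟨ff_punctured_of_cover (toB A e) (toB_map A e) (toB_res A e) (toB_faithfullyFlat A e) h1,
    connectedSpace_of_cover (toB A e) (toB_map A e) (toB_faithfullyFlat A e) h2⟩

end K156.VdimTwo
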